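/-
Four non-zero field elements with sum zero and prescribed product modulo fourth powers.
-/
import Mathlib

set_option autoImplicit false

namespace CfsgLib.Geo.SLFour

variable {F : Type*} [Field F] [Fintype F]

theorem exists_pow_four_ne_one (hq : 7 ≤ Fintype.card F) : ∃ k : F, k ≠ 0 ∧ k ^ 4 ≠ 1 := by
  obtain ⟨s, hs⟩ := IsCyclic.exists_ofOrder_eq_natCard (α := Fˣ)
  rw [Nat.card_units, Nat.card_eq_fintype_card] at hs
  refine ⟨s, s.ne_zero, fun e => ?_⟩
  rw [← Units.val_pow_eq_pow_val, Units.val_eq_one] at e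
  have := Nat.le_of_dvd (by norm_num) (orderOf_dvd_of_pow_eq_one e)
  omega

/-- One solution for a non-square class. -/
theorem exists_quad (hq : 7 ≤ Fintype.card F) {C : F} (hC : ¬ IsSquare C) :
    ∃ x z m : F, m ≠ 0 ∧ x * (1 - x) * (z * (1 - z)) = C * m ^ 4 := by
  classical
  by_contra! hno
  have h2 : (2 : F) ≠ 0 := fun e => by
    haveI : CharP F 2 := CharTwo.of_one_ne_zero_of_two_eq_zero one_ne_zero e
    exact hC (FiniteField.isSquare_of_char_two (ringChar.eq F 2) C)
  have hC0 : C ≠ 0 := fun e => hC (e ▸ IsSquare.zero)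
  set f : F → F := fun x => x * (1 - x)
  set U : Finset F := Finset.univ.filter fun x => f x ≠ 0
  set S : Finset F := U.image f
  set W : Finset F := Finset.univ.filter fun v => ∃ s ∈ S, ∃ m : F, m ≠ 0 ∧ v = s * m ^ 4
  have hS0 : ∀ s ∈ S, s ≠ 0 := fun s hs => by
    obtain ⟨x, hx, rfl⟩ := Finset.mem_image.1 hs
    exact (Finset.mem_filter.1 hx).2
  have hW0 : ∀ v ∈ W, v ≠ 0 := fun v hv => by
    obtain ⟨s, hs, m, hm, rfl⟩ := (Finset.mem_filter.1 hv).2
    exact mul_ne_zero (hS0 s hs) (pow_ne_zero _ hm)
  have hSW : S ⊆ W := fun s hs => Finset.mem_filter.2 ⟨Finset.mem_univ _, s, hs, 1, one_ne_zero, by simp⟩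
  have hfib : ∀ x y, f y = f x → y = x ∨ y = 1 - x := fun x y e => by
    have e' : (y - x) * (1 - y - x) = 0 := by simp only [f] at e; linear_combination e
    rcases mul_eq_zero.1 e' with h | h
    · exact Or.inl (sub_eq_zero.1 h)
    · exact Or.inr (by linear_combination -h)
  have hU : U = (Finset.univ.erase 0).erase 1 := by
    ext x
    simp only [U, f, Finset.mem_filter, Finset.mem_univ, true_and, Finset.mem_erase, mul_ne_zero_iff, ne_eq, sub_eq_zero, and_true]
    exact ⟨fun h => ⟨fun e => h.2 e.symm, h.1⟩, fun h => ⟨h.2, fun e => h.1 e.symm⟩⟩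
  have hodd : Odd (Fintype.card F) := by
    refine Nat.odd_iff.2 (FiniteField.odd_card_of_char_ne_two fun e => h2 ?_)
    haveI := ringChar.of_eq e
    exact CharP.cast_eq_zero F 2
  have hcardU : U.card = Fintype.card F - 2 := by
    rw [hU, Finset.card_erase_of_mem (by simp), Finset.card_erase_of_mem (by simp), Finset.card_univ]
    omega
  have hcardS : U.card ≤ 2 * S.card := by
    refine Finset.card_le_mul_card_image U 2 fun b hb => ?_
    obtain ⟨x, -, rfl⟩ := Finset.mem_image.1 hb
    refine le_trans (Finset.card_le_card fun y hy => ?_) (Finset.card_le_two (a := x) (b := 1 - x))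
    simpa using hfib x y (Finset.mem_filter.1 hy).2
  -- the reflection `v ↦ C / v` sends `W` to its complement
  have hW : 2 * W.card ≤ Fintype.card F - 1 := by
    have hd : Disjoint W (W.image fun v => C / v) := Finset.disjoint_left.2 fun v hv hv' => by
      obtain ⟨v', hv'', rfl⟩ := Finset.mem_image.1 hv'
      obtain ⟨s, hs, m, hm, e⟩ := (Finset.mem_filter.1 hv).2
      obtain ⟨s', hs', m', hm', rfl⟩ := (Finset.mem_filter.1 hv'').2
      obtain ⟨x, -, rfl⟩ := Finset.mem_image.1 hs
      obtain ⟨z, -, rfl⟩ := Finset.mem_image.1 hs'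
      refine hno x z (m * m')⁻¹ (inv_ne_zero (mul_ne_zero hm hm')) ?_
      have := hS0 _ hs'
      rw [div_eq_iff (mul_ne_zero this (pow_ne_zero _ hm'))] at e
      have hmm : (m * m') ^ 4 ≠ 0 := pow_ne_zero _ (mul_ne_zero hm hm')
      rw [inv_pow, ← div_eq_mul_inv, eq_div_iff hmm]
      simp only [f] at e ⊢
      linear_combination -e
    have hsub : W ∪ W.image (fun v => C / v) ⊆ Finset.univ.erase 0 := fun v hv => by
      refine Finset.mem_erase.2 ⟨?_, Finset.mem_univ _⟩
      rcases Finset.mem_union.1 hv with hv | hv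
      · exact hW0 v hv
      · obtain ⟨v', hv', rfl⟩ := Finset.mem_image.1 hv
        exact div_ne_zero hC0 (hW0 v' hv')
    have := Finset.card_le_card hsub
    rw [Finset.card_union_of_disjoint hd, Finset.card_image_of_injective _ (fun a b e => by
      by_cases hb : b = 0
      · subst hb
        simpa [hC0] using e
      by_cases ha : a = 0
      · subst ha
        simpa [hC0, eq_comm] using e
      field_simp at e
      exact e.symm), Finset.card_erase_of_mem (Finset.mem_univ _), Finset.card_univ] at this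
    omega
  have hSeq : S = W := Finset.eq_of_subset_of_card_le hSW (by
    have := Nat.odd_iff.1 hodd
    omega)
  obtain ⟨k, hk0, hk⟩ := exists_pow_four_ne_one hq
  have hinv : S.image (fun s => k ^ 4 * s) ⊆ S := fun v hv => by
    obtain ⟨s, hs, rfl⟩ := Finset.mem_image.1 hv
    rw [hSeq]
    exact Finset.mem_filter.2 ⟨Finset.mem_univ _, s, hs, k, hk0, mul_comm _ _⟩
  have hk4 : k ^ 4 ≠ 0 := pow_ne_zero _ hk0
  have hsum0 : ∑ s ∈ S, s = 0 := by
    have he := Finset.eq_of_subset_of_card_le hinv (by rw [Finset.card_image_of_injective _ (mul_right_injective₀ hk4)])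
    have e : ∑ s ∈ S, s = k ^ 4 * ∑ s ∈ S, s := by
      conv_lhs => rw [← he]
      rw [Finset.sum_image fun a _ b _ h => mul_right_injective₀ hk4 h, Finset.mul_sum]
    have e' : (k ^ 4 - 1) * ∑ s ∈ S, s = 0 := by linear_combination -e
    exact (mul_eq_zero.1 e').resolve_left (sub_ne_zero.2 hk)
  -- but the sum is one eighth
  have hall : ∑ x : F, f x = 0 := by
    have h1 := FiniteField.sum_pow_lt_card_sub_one F 1 (by omega)
    have h2' := FiniteField.sum_pow_lt_card_sub_one F 2 (by omega)
    simp only [pow_one] at h1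
    simp only [f]
    rw [show (∑ x : F, x * (1 - x)) = ∑ x : F, x - ∑ x : F, x ^ 2 by
      rw [← Finset.sum_sub_distrib]; exact Finset.sum_congr rfl fun x _ => by ring, h1, h2', sub_zero]
  set g : F → F := fun s => if s = 1 / 4 then s else s + s
  have himg : ∑ s ∈ S, g s = ∑ x ∈ U, f x := by
    refine Finset.sum_image' f fun x hx => ?_
    have hflt : U.filter (fun y => f y = f x) = {x, 1 - x} := by
      ext y
      simp only [Finset.mem_filter, Finset.mem_insert, Finset.mem_singleton]
      refine ⟨fun h => hfib x y h.2, fun h => ?_⟩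
      have hxe : f (1 - x) = f x := by simp only [f]; ring
      rcases h with rfl | rfl
      · exact ⟨hx, rfl⟩
      · exact ⟨Finset.mem_filter.2 ⟨Finset.mem_univ _, by rw [hxe]; exact (Finset.mem_filter.1 hx).2⟩, hxe⟩
    rw [hflt]
    have h4 : (4 : F) ≠ 0 := by
      rw [show (4 : F) = 2 * 2 by norm_num]
      exact mul_ne_zero h2 h2
    have hquart : f x = 1 / 4 ↔ x = 1 - x := by
      simp only [f]
      rw [eq_div_iff h4]
      constructor
      · intro e
        have e' : (2 * x - 1) ^ 2 = 0 := by linear_combination -e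
        linear_combination (pow_eq_zero_iff two_ne_zero).1 e'
      · intro e
        linear_combination (1 - 2 * x) * e
    by_cases hx2 : x = 1 - x
    · simp only [g]
      rw [if_pos (hquart.2 hx2), ← hx2, Finset.pair_eq_singleton, Finset.sum_singleton]
    · simp only [g]
      rw [if_neg (mt hquart.1 hx2), Finset.sum_pair hx2]
      simp only [f]
      ring
  have hUsum : ∑ x ∈ U, f x = 0 := by
    refine Eq.trans ?_ hall
    exact Finset.sum_filter_ne_zero _
  have h4 : (4 : F) ≠ 0 := by
    rw [show (4 : F) = 2 * 2 by norm_num]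
    exact mul_ne_zero h2 h2
  have hq4 : (1 / 4 : F) ∈ S := by
    refine Finset.mem_image.2 ⟨1 / 2, Finset.mem_filter.2 ⟨Finset.mem_univ _, ?_⟩, ?_⟩
    · simp only [f]
      rw [show (1 : F) - 1 / 2 = 1 / 2 by field_simp; ring]
      exact mul_ne_zero (one_div_ne_zero h2) (one_div_ne_zero h2)
    · simp only [f]
      field_simp
      ring
  have hg : ∑ s ∈ S, g s = ∑ s ∈ S, (s + s) - 1 / 4 := by
    rw [← Finset.add_sum_erase _ _ hq4, ← Finset.add_sum_erase S (fun s => s + s) hq4,
      Finset.sum_congr rfl fun s hs => show g s = s + s from if_neg (Finset.mem_erase.1 hs).1]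
    simp only [g, if_true]
    ring
  rw [himg, hUsum, Finset.sum_add_distrib, hsum0] at hg
  exact one_div_ne_zero h4 (by linear_combination hg)

omit [Fintype F] in
/-- Four solutions from one. -/
theorem four_of_one {a b c d K : F} (hK : ¬ IsSquare K) (hab : a ≠ b) (hbcd : ¬ (b = c ∧ c = d))
    (hsum : a + b + c + d = 0) {m : F} (hm : m ≠ 0) (hprod : a * b * c * d = K * m ^ 4) :
    ∃ T : Finset (Fin 4 → F), 4 ≤ T.card ∧
      ∀ s ∈ T, s 0 = 1 ∧ ∑ i, s i = 0 ∧ ∃ n : F, n ≠ 0 ∧ ∏ i, s i = K * n ^ 4 := by
  classical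
  have hK0 : K ≠ 0 := fun e => hK (e ▸ IsSquare.zero)
  have h0 : a * b * c * d ≠ 0 := hprod ▸ mul_ne_zero hK0 (pow_ne_zero _ hm)
  simp only [mul_ne_zero_iff] at h0
  obtain ⟨⟨⟨ha, hb⟩, hc⟩, hd⟩ := h0
  have hnsq : ∀ z : F, a * b * c * d ≠ z ^ 2 := fun z e => hK ⟨z / m ^ 2, by
    field_simp
    linear_combination e - hprod⟩
  let v : Fin 4 → Fin 4 → F :=
    ![![1, b / a, c / a, d / a], ![1, c / a, d / a, b / a], ![1, d / a, b / a, c / a], ![1, a / b, c / b, d / b]]
  refine ⟨Finset.univ.image v, ?_, ?_⟩
  · rw [Finset.card_image_of_injective, Finset.card_univ, Fintype.card_fin]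
    intro i j e
    have e1 := congrFun e 1
    have e2 := congrFun e 2
    have e3 := congrFun e 3
    fin_cases i <;> fin_cases j <;> first | rfl | skip
    all_goals exfalso
    all_goals simp [v] at e1 e2 e3
    all_goals field_simp at e1 e2 e3
    all_goals first
      | exact hbcd ⟨by linear_combination e1, by linear_combination e2⟩
      | exact hbcd ⟨by linear_combination e3, by linear_combination e1⟩
      | exact hbcd ⟨by linear_combination -e3, by linear_combination -e1⟩
      | exact hbcd ⟨by linear_combination -e1, by linear_combination -e2⟩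
      | exact hbcd ⟨by linear_combination e2, by linear_combination e3⟩
      | exact hbcd ⟨by linear_combination -e2, by linear_combination -e3⟩
      | exact hab (mul_right_cancel₀ hc (by linear_combination e2))
      | exact hab (mul_right_cancel₀ hc (by linear_combination -e2))
      | exact hab e2.symm
      | exact hab e2
      | exact hnsq (a * b) (by linear_combination (a * d) * e1 - a ^ 2 * e3)
      | exact hnsq (a * b) (by linear_combination (a * c) * e1 - a ^ 2 * e2)
      | exact hnsq (a * b) (by linear_combination -(a * d) * e1 + a ^ 2 * e3)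
      | exact hnsq (a * b) (by linear_combination -(a * c) * e1 + a ^ 2 * e2)
      | skip
  intro s hs
  obtain ⟨i, -, rfl⟩ := Finset.mem_image.1 hs
  refine ⟨by fin_cases i <;> rfl, ?_, ?_⟩
  · fin_cases i <;> simp [v, Fin.sum_univ_four] <;> field_simp <;> linear_combination hsum
  · fin_cases i
    · exact ⟨m / a, div_ne_zero hm ha, by simp [v, Fin.prod_univ_four]; field_simp; linear_combination hprod⟩
    · exact ⟨m / a, div_ne_zero hm ha, by simp [v, Fin.prod_univ_four]; field_simp; linear_combination hprod⟩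
    · exact ⟨m / a, div_ne_zero hm ha, by simp [v, Fin.prod_univ_four]; field_simp; linear_combination hprod⟩
    · exact ⟨m / b, div_ne_zero hm hb, by simp [v, Fin.prod_univ_four]; field_simp; linear_combination hprod⟩

theorem exists_solutions (hq : 7 ≤ Fintype.card F) {C : F} (hC : C ≠ 0) :
    ∃ T : Finset (Fin 4 → F), 4 ≤ T.card ∧
      ∀ s ∈ T, s 0 = 1 ∧ ∑ i, s i = 0 ∧ ∃ n : F, n ≠ 0 ∧ ∏ i, s i = C * n ^ 4 := by
  classical
  by_cases hsq : IsSquare C
  · obtain ⟨d, rfl⟩ := hsq
    have hd : d ≠ 0 := fun e => hC (by simp [e])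
    set V : Finset F := (Finset.univ.erase (0 : F)).image fun k => d * k ^ 2
    have hV : 3 ≤ V.card := by
      have := Finset.card_le_mul_card_image (Finset.univ.erase (0 : F)) (f := fun k => d * k ^ 2) 2 fun b hb => by
        obtain ⟨k, -, rfl⟩ := Finset.mem_image.1 hb
        refine le_trans (Finset.card_le_card fun y hy => ?_) (Finset.card_le_two (a := k) (b := -k))
        have e : y ^ 2 = k ^ 2 := mul_left_cancel₀ hd (Finset.mem_filter.1 hy).2
        simpa using sq_eq_sq_iff_eq_or_eq_neg.1 e
      rw [Finset.card_erase_of_mem (Finset.mem_univ _), Finset.card_univ] at this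
      change _ ≤ 2 * V.card at this
      omega
    obtain ⟨v₀, hv₀, hv₀1⟩ := Finset.exists_mem_notMem_of_card_lt_card (s := ({-1} : Finset F)) (t := V) (by simp; omega)
    have hinj : Function.Injective fun v : F => (![1, -1, v, -v] : Fin 4 → F) := fun v v' e => by
      simpa using congrFun e 2
    refine ⟨insert ![1, v₀, -1, -v₀] (V.image fun v => ![1, -1, v, -v]), ?_, fun s hs => ?_⟩
    · rw [Finset.card_insert_of_notMem, Finset.card_image_of_injective _ hinj]
      · omega
      · intro h
        obtain ⟨v, -, e⟩ := Finset.mem_image.1 h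
        exact hv₀1 (Finset.mem_singleton.2 (by simpa using (congrFun e 1).symm))
    obtain ⟨v, hv, rfl | rfl⟩ : ∃ v ∈ V, s = ![1, v, -1, -v] ∨ s = ![1, -1, v, -v] := by
      rcases Finset.mem_insert.1 hs with rfl | hs
      · exact ⟨v₀, hv₀, Or.inl rfl⟩
      · obtain ⟨v, hv, rfl⟩ := Finset.mem_image.1 hs
        exact ⟨v, hv, Or.inr rfl⟩
    all_goals
      obtain ⟨k, hk, rfl⟩ := Finset.mem_image.1 hv
      refine ⟨rfl, by simp [Fin.sum_univ_four], k, (Finset.mem_erase.1 hk).1, ?_⟩
      simp [Fin.prod_univ_four]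
      ring
  obtain ⟨x, z, m, hm, e⟩ := exists_quad hq hsq
  set a := x with hadef
  set b := 1 - x with hbdef
  set c := -z with hcdef
  set d := z - 1 with hddef
  have hsum : a + b + c + d = 0 := by simp only [hadef, hbdef, hcdef, hddef]; ring
  have hprod : a * b * c * d = C * m ^ 4 := by simp only [hadef, hbdef, hcdef, hddef]; linear_combination e
  have hne : ¬ (a = b ∧ c = d) := fun ⟨e1, e2⟩ => hsq ⟨a * c / m ^ 2, by
    rw [← e1, ← e2] at hprod
    field_simp
    linear_combination -hprod⟩
  by_cases hab : a = b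
  · have hcd : c ≠ d := fun e' => hne ⟨hab, e'⟩
    by_cases hda : d = a
    · exact four_of_one hsq (a := d) (b := c) (c := a) (d := b) (Ne.symm hcd) (fun h => hcd (h.1.trans hda.symm))
        (by linear_combination hsum) hm (by linear_combination hprod)
    · exact four_of_one hsq (a := c) (b := d) (c := a) (d := b) hcd (fun h => hda h.1)
        (by linear_combination hsum) hm (by linear_combination hprod)
  · by_cases hbcd : b = c ∧ c = d
    · exact four_of_one hsq (a := b) (b := a) (c := c) (d := d) (Ne.symm hab) (fun h => hab (h.1.trans hbcd.1.symm))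
        (by linear_combination hsum) hm (by linear_combination hprod)
    · exact four_of_one hsq hab hbcd hsum hm hprod

end CfsgLib.Geo.SLFour
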