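import Cfsg.Agent.Lib.Geo.SLFour.KleinGens
import Cfsg.Agent.Lib.Geo.SympNorm.Basic

/-!
# The normaliser of the standard Pauli group is maximal in the special linear group
-/

set_option autoImplicit false
set_option maxHeartbeats 1000000

namespace CfsgLib.Geo.SLFour.Klein

attribute [local irreducible] kap gS

open Matrix Cfsg.Geo
open CfsgLib.Classical CfsgLib.Classical.Quad
open CfsgLib.Geo.Frame (fQ ee flipO permO IsMon MonBy dO)

variable {F : Type*} [Field F] {i : F} (hi : i * i = -1) (h2 : (2 : F) ≠ 0)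

local notation "SS" => specialLinear (Fin 4) F

/-- The subgroup generated by the five matrices. -/
noncomputable def pauliW : Subgroup SS := Subgroup.closure (Set.range (uS hi))

/-- The standard Pauli group with the scalars. -/
noncomputable def pauliR : Subgroup (GL (Fin 4) F) :=
  (pauliW hi).map (specialLinear (Fin 4) F).subtype ⊔ scalars (Fin 4) F

theorem uS_mem_pauliR (k : Fin 5) : (uS hi k : GL (Fin 4) F) ∈ pauliR hi :=
  Subgroup.mem_sup_left ⟨uS hi k, Subgroup.subset_closure ⟨k, rfl⟩, rfl⟩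

include h2

theorem monBy_of_mem_pauliW {w : SS} (hw : w ∈ pauliW hi) : MonBy (kap hi h2 w) 1 := by
  induction hw using Subgroup.closure_induction with
  | mem x hx =>
    obtain ⟨k, rfl⟩ := hx
    rw [kap_uS]
    exact Frame.monBy_flip _
  | one => rw [map_one]; exact Frame.monBy_one
  | mul x y _ _ hx hy => simpa using hx.mul hy
  | inv x _ hx => simpa using hx.inv

/-- The elements of the group act diagonally. -/
theorem monBy_of_mem_pauliR {r : SS} (hr : (r : GL (Fin 4) F) ∈ pauliR hi) : MonBy (kap hi h2 r) 1 := by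
  obtain ⟨_, ⟨w, hw, rfl⟩, c, hc, e⟩ := Subgroup.mem_sup_of_normal_right.1 hr
  have hcS : c ∈ specialLinear (Fin 4) F := by
    rw [show c = (specialLinear (Fin 4) F).subtype w⁻¹ * ((w : GL (Fin 4) F) * c) by
      simp]
    exact mul_mem (w⁻¹).2 (e ▸ r.2)
  rw [show r = w * ⟨c, hcS⟩ from Subtype.ext e.symm, map_mul]
  suffices h : MonBy (kap hi h2 ⟨c, hcS⟩) 1 by simpa using (monBy_of_mem_pauliW hi h2 hw).mul h
  obtain ⟨d, hd⟩ : ∃ d : F, (c : Matrix (Fin 4) (Fin 4) F) = d • 1 := by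
    obtain ⟨u, hu⟩ := (mem_scalars_iff c).1 hc
    exact ⟨u, hu⟩
  have hd4 : d ^ 4 = 1 := by
    have := det_coe ⟨c, hcS⟩
    simpa [hd] using this
  intro l
  have e1 : kap hi h2 ⟨c, hcS⟩ • (ee l : Fin 6 → F) = (d * d) • ee l := by
    refine E6_injective hi h2 ?_
    rw [kap_smul, E6_kLin hi h2, map_smul]
    show (c : Matrix (Fin 4) (Fin 4) F) * _ * (c : Matrix (Fin 4) (Fin 4) F)ᵀ = _
    rw [hd]
    simp [smul_smul]
  rcases mul_self_eq_one_iff.1 (show (d * d) * (d * d) = 1 by rw [← hd4]; ring) with h | h <;> rw [h] at e1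
  · left; simpa using e1
  · right; simpa using e1

theorem kap_neg_one : ∀ g g' : SS, (g : GL (Fin 4) F) = -(g' : GL (Fin 4) F) → kap hi h2 g = kap hi h2 g' := by
  intro g g' e
  refine Frame.eq_of_smul fun x => ?_
  rw [kap_smul, kap_smul, kLin_apply, kLin_apply, e]
  simp

/-- Pair sign changes have preimages in the group. -/
theorem exists_pre_flip {a b : Fin 6} (hab : a ≠ b) :
    ∃ w ∈ pauliW hi, kap hi h2 w = flipO (1 : Fin 6 → F) {a, b} := by
  have one : ∀ j : Fin 6, j ≠ 0 → ∃ w ∈ pauliW hi, kap hi h2 w = flipO (1 : Fin 6 → F) {0, j} := fun j hj => by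
    obtain ⟨k, rfl⟩ := Fin.exists_succ_eq.2 hj
    exact ⟨uS hi k, Subgroup.subset_closure ⟨k, rfl⟩, kap_uS hi h2 k⟩
  rcases eq_or_ne a 0 with rfl | ha
  · exact one b hab.symm
  rcases eq_or_ne b 0 with rfl | hb
  · obtain ⟨w, hw, e⟩ := one a ha
    exact ⟨w, hw, by rw [e, Finset.pair_comm]⟩
  obtain ⟨w, hw, e⟩ := one a ha
  obtain ⟨w', hw', e'⟩ := one b hb
  refine ⟨w * w', mul_mem hw hw', ?_⟩
  rw [map_mul, e, e', Frame.flipO_mul]
  congr 1
  ext l
  by_cases l0 : l = 0
  · subst l0; simp [Finset.mem_symmDiff, ha.symm, hb.symm]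
  by_cases la : l = a
  · subst la; simp [Finset.mem_symmDiff, ha, hab]
  simp [Finset.mem_symmDiff, l0, la]

/-- Monomial elements normalise. -/
theorem mem_normalizer_of_mon {g : SS} (hg : IsMon (kap hi h2 g)) :
    (g : GL (Fin 4) F) ∈ subgroupNormalizer (pauliR hi) := by
  have neg : (-1 : GL (Fin 4) F) ∈ pauliR hi :=
    Subgroup.mem_sup_right (SympNorm.neg_mem_scalars (one_mem _))
  have one : ∀ g : SS, IsMon (kap hi h2 g) → ∀ x ∈ pauliR hi, (g : GL (Fin 4) F) * x * (g : GL (Fin 4) F)⁻¹ ∈ pauliR hi := by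
    intro g ⟨π, hπ⟩
    have hu : ∀ k, (g : GL (Fin 4) F) * uS hi k * (g : GL (Fin 4) F)⁻¹ ∈ pauliR hi := by
      intro k
      obtain ⟨w, hw, e⟩ := exists_pre_flip hi h2 (show π 0 ≠ π k.succ from fun e => absurd (π.injective e) (Fin.succ_ne_zero k).symm)
      have e' : kap hi h2 (g * uS hi k * g⁻¹) = kap hi h2 w := by
        rw [map_mul, map_mul, map_inv, kap_uS, hπ.conj_flip, e, Finset.image_insert, Finset.image_singleton]
      rcases eq_or_eq_neg_of_kap hi h2 e' with h | h <;>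
        rw [Subgroup.coe_mul, Subgroup.coe_mul, Subgroup.coe_inv] at h <;> rw [h]
      · exact Subgroup.mem_sup_left ⟨w, hw, rfl⟩
      · rw [← neg_one_mul]
        exact mul_mem neg (Subgroup.mem_sup_left ⟨w, hw, rfl⟩)
    have hle : pauliR hi ≤ (pauliR hi).comap (MulAut.conj (g : GL (Fin 4) F)).toMonoidHom := by
      refine sup_le ?_ fun c hc => ?_
      · rw [Subgroup.map_le_iff_le_comap, pauliW, Subgroup.closure_le]
        rintro _ ⟨k, rfl⟩
        exact hu k
      · show (g : GL (Fin 4) F) * c * (g : GL (Fin 4) F)⁻¹ ∈ pauliR hi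
        rw [SympNorm.scalar_conj hc]
        exact Subgroup.mem_sup_right hc
    exact fun x hx => hle hx
  refine Subgroup.mem_normalizer_iff.2 fun x => ⟨one g hg x, fun hx => ?_⟩
  have := one g⁻¹ (by rw [map_inv]; exact hg.inv) _ hx
  rwa [Subgroup.coe_inv, show (g : GL (Fin 4) F)⁻¹ * (↑g * x * (↑g)⁻¹) * (↑g : GL (Fin 4) F)⁻¹⁻¹ = x by group] at this

/-- Normalising elements are monomial. -/
theorem mon_of_mem_normalizer {g : SS} (hg : (g : GL (Fin 4) F) ∈ subgroupNormalizer (pauliR hi)) :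
    IsMon (kap hi h2 g) := by
  classical
  set x := kap hi h2 g with hx
  have hflip : ∀ a b : Fin 6, a ≠ b → ∃ T, x * flipO (1 : Fin 6 → F) {a, b} * x⁻¹ = flipO (1 : Fin 6 → F) T := by
    intro a b hab
    obtain ⟨w, hw, e⟩ := exists_pre_flip hi h2 hab
    have hmem : ((g * w * g⁻¹ : SS) : GL (Fin 4) F) ∈ pauliR hi := by
      rw [Subgroup.coe_mul, Subgroup.coe_mul, Subgroup.coe_inv]
      exact (Subgroup.mem_normalizer_iff.1 hg _).1 (Subgroup.mem_sup_left ⟨w, hw, rfl⟩)
    refine Frame.eq_flip_of_monBy_one h2 ?_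
    have := monBy_of_mem_pauliR hi h2 hmem
    rwa [map_mul, map_mul, map_inv, e] at this
  refine Frame.isMon_of_axis h2 fun l => ?_
  obtain ⟨a, ha⟩ := Frame.exists_avoid (s := ({l} : Finset (Fin 6))) (by simp)
  obtain ⟨b, hb⟩ := Frame.exists_avoid (s := ({l, a} : Finset (Fin 6)))
    (Finset.card_le_two.trans_lt (by simp))
  simp at ha hb
  obtain ⟨T1, hT1⟩ := hflip l a (Ne.symm ha)
  obtain ⟨T2, hT2⟩ := hflip l b (Ne.symm hb.1)
  have k1 := Frame.card_eq_of_conj h2 x hT1
  have k2 := Frame.card_eq_of_conj h2 x hT2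
  rw [Finset.card_pair (Ne.symm ha)] at k1
  rw [Finset.card_pair (Ne.symm hb.1)] at k2
  have zero : ∀ T c, x * flipO (1 : Fin 6 → F) {l, c} * x⁻¹ = flipO (1 : Fin 6 → F) T →
      ∀ m ∉ T, (x • ee l : Fin 6 → F) m = 0 := by
    intro T c hc m hm
    have h := congrArg (fun f : OQ (fQ F (Fin 6)) => (f • x • (ee l : Fin 6 → F)) m) hc
    simp only [mul_smul, inv_smul_smul, Frame.flipO_ee_mem (show l ∈ ({l, c} : Finset (Fin 6)) by simp),
      Frame.gsmul_neg, Pi.neg_apply, Frame.flipO_apply, if_neg hm] at h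
    exact (mul_eq_zero.1 (show (2 : F) * (x • ee l : Fin 6 → F) m = 0 by linear_combination -h)).resolve_left h2
  have hne : T1 ≠ T2 := fun e => by
    subst e
    have := Frame.flipO_injective h2 (mul_left_cancel (mul_right_cancel (hT1.trans hT2.symm)))
    have hmem : a ∈ ({l, b} : Finset (Fin 6)) := this ▸ (by simp)
    simp at hmem
    rcases hmem with h | h
    · exact ha h
    · exact hb.2 h.symm
  have hone : (T1 ∩ T2).card ≤ 1 := by
    by_contra hc
    exact hne ((Finset.eq_of_subset_of_card_le Finset.inter_subset_left (by omega)).symm.trans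
      (Finset.eq_of_subset_of_card_le Finset.inter_subset_right (by omega)))
  have hzero : ∀ m ∉ T1 ∩ T2, (x • ee l : Fin 6 → F) m = 0 := fun m hm => by
    by_cases h0 : m ∈ T1
    · exact zero T2 b hT2 m fun h => hm (Finset.mem_inter.2 ⟨h0, h⟩)
    · exact zero T1 a hT1 m h0
  rcases (T1 ∩ T2).eq_empty_or_nonempty with he | ⟨c, hc⟩
  · exact ⟨l, fun m _ => hzero m (by simp [he])⟩
  · exact ⟨c, fun m hm => hzero m fun h => hm (Finset.card_le_one.1 hone m h c hc)⟩

/-- The permutation of the `k`th cycle element. -/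
def cyc (k : Fin 4) : Equiv.Perm (Fin 6) := Equiv.swap 0 1 * Equiv.swap 0 k.succ.succ

omit h2 in
theorem cyc_symm_table : ∀ (k : Fin 4) (r : Fin 6), (cyc k).symm r =
    (![![1, 2, 0, 3, 4, 5], ![1, 3, 2, 0, 4, 5], ![1, 4, 2, 3, 0, 5], ![1, 5, 2, 3, 4, 0]] :
      Fin 4 → Fin 6 → Fin 6) k r := by decide

omit h2 in
theorem cycImg_apply (k : Fin 4) (x : Fin 6 → F) (r : Fin 6) :
    cycImg k x r = x ((cyc k).symm r) ∨ cycImg k x r = -x ((cyc k).symm r) := by
  rw [cyc_symm_table]
  fin_cases k <;> fin_cases r <;> simp [cycImg]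

theorem monBy_gS (k : Fin 4) : MonBy (kap hi h2 (gS hi h2 k)) (cyc k) := by
  intro l
  rw [kap_gS]
  have h := cycImg_apply (F := F) k (ee l) (cyc k l)
  rw [Equiv.symm_apply_apply, Frame.ee_self] at h
  have h0 : ∀ r, r ≠ cyc k l → cycImg k (ee l : Fin 6 → F) r = 0 := fun r hr => by
    have hne : (cyc k).symm r ≠ l := fun e => hr (by rw [← e, Equiv.apply_symm_apply])
    rcases cycImg_apply (F := F) k (ee l) r with e | e <;> rw [e, Frame.ee_ne hne]
    exact neg_zero
  refine h.imp (fun e => funext fun r => ?_) (fun e => funext fun r => ?_) <;>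
    rcases eq_or_ne r (cyc k l) with rfl | hr <;> simp [e, h0, *]

/-- Even permutations lie in any suitable group of determinant one. -/
theorem perm_mem {K : Subgroup (OQ (fQ F (Fin 6)))} (hflip : ∀ T : Finset (Fin 6), Even T.card → flipO (1 : Fin 6 → F) T ∈ K)
    (hdet : ∀ g ∈ K, dO g = 1) (hgen : ∀ k, kap hi h2 (gS hi h2 k) ∈ K) :
    ∀ π : Equiv.Perm (Fin 6), Equiv.Perm.sign π = 1 → permO F π ∈ K := by
  let c : Equiv.Perm (Fin 6) := Equiv.swap 0 1
  have hcyc : ∀ j : Fin 6, j ≠ 0 → permO F (c * Equiv.swap 0 j) ∈ K := by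
    intro j hj0
    by_cases hj1 : j = 1
    · subst hj1
      rw [Equiv.swap_mul_self, map_one]
      exact one_mem K
    obtain ⟨k, rfl⟩ : ∃ k : Fin 4, j = k.succ.succ := by
      revert hj0 hj1; revert j; decide
    have hm : MonBy (kap hi h2 (gS hi h2 k)) (c * Equiv.swap 0 k.succ.succ) := by
      have := monBy_gS hi h2 k
      unfold cyc at this
      exact this
    obtain ⟨T, hT⟩ : ∃ T, kap hi h2 (gS hi h2 k) * (permO F (c * Equiv.swap 0 k.succ.succ))⁻¹ =
        flipO (1 : Fin 6 → F) T := by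
      refine Frame.eq_flip_of_monBy_one h2 ?_
      have h1 := hm.mul (Frame.monBy_perm (F := F) (c * Equiv.swap 0 k.succ.succ)).inv
      rwa [mul_inv_cancel] at h1
    have hev : Even T.card := by
      have := congrArg dO hT
      rw [map_mul, map_inv, hdet _ (hgen k), one_mul, map_mul, map_mul, Frame.dO_swap h2 (by decide),
        Frame.dO_swap h2 (Fin.succ_ne_zero _).symm, Frame.dO_flip, neg_one_mul, neg_neg, inv_one] at this
      rcases Nat.even_or_odd T.card with h | h
      · exact h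
      · rw [h.neg_one_pow] at this; exact absurd this.symm (Frame.neg_one_units_ne h2)
    have := mul_mem (hflip T hev) (hgen k)
    rwa [show flipO (1 : Fin 6 → F) T * kap hi h2 (gS hi h2 k) = permO F (c * Equiv.swap 0 k.succ.succ) by
      rw [mul_inv_eq_iff_eq_mul] at hT
      rw [hT, ← mul_assoc, Frame.flipO_sq, one_mul]] at this
  let Q : Equiv.Perm (Fin 6) → Prop := fun π =>
    permO F π ∈ K ∧ Equiv.Perm.sign π = 1 ∨ permO F (c * π) ∈ K ∧ Equiv.Perm.sign π = -1
  have hc : c * c = 1 := Equiv.swap_mul_self _ _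
  have step : ∀ j : Fin 6, j ≠ 0 → ∀ π, Q π → Q (Equiv.swap 0 j * π) := by
    rintro j hj π (⟨h, hs⟩ | ⟨h, hs⟩)
    · refine Or.inr ⟨?_, by rw [map_mul, Equiv.Perm.sign_swap hj.symm, hs]; decide⟩
      rw [← mul_assoc, map_mul]
      exact mul_mem (hcyc j hj) h
    · refine Or.inl ⟨?_, by rw [map_mul, Equiv.Perm.sign_swap hj.symm, hs]; decide⟩
      rw [show Equiv.swap 0 j * π = (c * Equiv.swap 0 j)⁻¹ * (c * π) by
        rw [_root_.mul_inv_rev, Equiv.swap_inv, show c⁻¹ = c from Equiv.swap_inv _ _, mul_assoc, ← mul_assoc c c,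
          hc, one_mul], map_mul, map_inv]
      exact mul_mem (inv_mem (hcyc j hj)) h
  have all : ∀ π : Equiv.Perm (Fin 6), Q π := by
    intro π
    induction π using Equiv.Perm.swap_induction_on with
    | one => exact Or.inl ⟨by rw [map_one]; exact one_mem K, map_one _⟩
    | swap_mul f a b hab ih =>
      by_cases ha : a = 0
      · subst ha; exact step b hab.symm f ih
      by_cases hb : b = 0
      · subst hb; rw [Equiv.swap_comm]; exact step a hab f ih
      rw [show Equiv.swap a b = Equiv.swap 0 a * Equiv.swap 0 b * Equiv.swap 0 a by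
        ext l
        simp only [Equiv.Perm.mul_apply, Equiv.swap_apply_def]
        split_ifs <;> simp_all, mul_assoc, mul_assoc]
      exact step a ha _ (step b hb _ (step a ha f ih))
  intro π hπ
  rcases all π with ⟨h, -⟩ | ⟨-, hs⟩
  · exact h
  · rw [hπ] at hs; exact absurd hs (by decide)

/-- The normaliser of the standard Pauli group is maximal. -/
theorem isMaximalIn_pauli [Fintype F] {p : ℕ} [Fact p.Prime] [CharP F p] (hF : Fintype.card F = p) (hp5 : 5 ≤ p)
    (hne : ¬ specialLinear (Fin 4) F ≤ subgroupNormalizer (pauliR hi)) :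
    Cfsg.Geo.IsMaximalIn (specialLinear (Fin 4) F) (subgroupNormalizer (pauliR hi) ⊓ specialLinear (Fin 4) F) := by
  classical
  refine ⟨lt_of_le_of_ne inf_le_right fun e => hne (e.ge.trans inf_le_left), fun M hM hMS => ?_⟩
  set K := (M.comap (specialLinear (Fin 4) F).subtype).map (kap hi h2) with hK
  have hmon : ∀ g : SS, IsMon (kap hi h2 g) → kap hi h2 g ∈ K := fun g hg =>
    ⟨g, hM ⟨mem_normalizer_of_mon hi h2 hg, g.2⟩, rfl⟩
  have hdet : ∀ x ∈ K, dO x = 1 := by
    rintro _ ⟨g, -, rfl⟩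
    exact dO_kap hi h2 g
  have hpair : ∀ a b : Fin 6, a ≠ b → flipO (1 : Fin 6 → F) {a, b} ∈ K := fun a b hab => by
    obtain ⟨w, -, e⟩ := exists_pre_flip hi h2 hab
    rw [← e]
    exact hmon w (e.symm ▸ Frame.isMon_flip _)
  have hflip : ∀ T : Finset (Fin 6), Even T.card → flipO (1 : Fin 6 → F) T ∈ K := by
    intro T
    induction T using Finset.strongInduction with
    | H T ih =>
      intro hT
      rcases T.eq_empty_or_nonempty with rfl | ⟨a, ha⟩
      · rw [Frame.flipO_empty]; exact one_mem K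
      obtain ⟨b, hb⟩ : (T.erase a).Nonempty := by
        rw [← Finset.card_pos, Finset.card_erase_of_mem ha]
        have := Finset.card_pos.2 ⟨a, ha⟩
        obtain ⟨k, hk⟩ := hT
        omega
      have hab : b ≠ a := (Finset.mem_erase.1 hb).1
      have hbT : b ∈ T := (Finset.mem_erase.1 hb).2
      have hcard : Even ((T.erase a).erase b).card := by
        rw [Finset.card_erase_of_mem hb, Finset.card_erase_of_mem ha]
        obtain ⟨k, hk⟩ := hT
        exact ⟨k - 1, by omega⟩
      have := mul_mem (hpair a b hab.symm)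
        (ih _ ((Finset.erase_subset _ _).trans_ssubset (Finset.erase_ssubset ha)) hcard)
      rw [Frame.flipO_mul] at this
      convert this using 2
      ext l
      simp only [Finset.mem_symmDiff, Finset.mem_insert, Finset.mem_singleton, Finset.mem_erase]
      by_cases la : l = a <;> by_cases lb : l = b <;> simp [la, lb, ha, hbT, hab, hab.symm]
  have hgen : ∀ k, kap hi h2 (gS hi h2 k) ∈ K := fun k => hmon _ ⟨_, monBy_gS hi h2 k⟩
  have hfr : Frame.IsFrame K := ⟨perm_mem hi h2 hflip hdet hgen, fun a b hab => by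
    rw [Frame.flipO_mul]
    refine hflip _ ?_
    rw [show symmDiff ({a} : Finset (Fin 6)) {b} = {a, b} by
      ext l
      simp only [Finset.mem_symmDiff, Finset.mem_insert, Finset.mem_singleton]
      constructor
      · rintro (⟨h, -⟩ | ⟨h, -⟩) <;> simp [h]
      · rintro (rfl | rfl)
        exacts [Or.inl ⟨rfl, hab⟩, Or.inr ⟨rfl, hab.symm⟩], Finset.card_pair hab]
    decide⟩
  have hneg : (-1 : GL (Fin 4) F) ∈ M := by
    refine hM ⟨Subgroup.le_normalizer (Subgroup.mem_sup_right (SympNorm.neg_mem_scalars (one_mem _))), ?_⟩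
    show Matrix.GeneralLinearGroup.det (-1 : GL (Fin 4) F) = 1
    exact Units.ext (by simp [Matrix.det_neg, Even.neg_one_pow (⟨2, rfl⟩ : Even 4)])
  by_cases hle : eichGroup (Frame.fQ_nondegenerate (F := F) (ι := Fin 6) h2) ≤ K
  · refine Or.inr (le_antisymm hMS fun g hg => ?_)
    obtain ⟨m, hm, e⟩ := Subgroup.mem_map.1 (hle (kap_mem_eichGroup hi h2 ⟨g, hg⟩))
    have hm' : (m : GL (Fin 4) F) ∈ M := Subgroup.mem_comap.1 hm
    have h' : g = (m : GL (Fin 4) F) ∨ g = -(m : GL (Fin 4) F) :=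
      eq_or_eq_neg_of_kap hi h2 (g := (⟨g, hg⟩ : specialLinear (Fin 4) F)) (g' := m) e.symm
    rcases h' with h | h
    · rw [h]; exact hm'
    · rw [h, ← neg_one_mul]; exact mul_mem hneg hm'
  · refine Or.inl (le_antisymm (fun g hg => ⟨?_, hMS hg⟩) hM)
    have hk : kap hi h2 ⟨g, hMS hg⟩ ∈ K := Subgroup.mem_map_of_mem _ (Subgroup.mem_comap.2 hg)
    have hn6 := Frame.mon_six hfr hF hp5 h2 (Fintype.card_fin 6) hdet hle (kap hi h2 ⟨g, hMS hg⟩) hk
    exact mem_normalizer_of_mon hi h2 (g := ⟨g, hMS hg⟩) hn6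

end CfsgLib.Geo.SLFour.Klein
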