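import Cfsg.Agent.Lib.Geo.SLFour.KleinMap

/-!
# Preimages of pair sign changes and of three-cycles
-/

set_option autoImplicit false
set_option maxHeartbeats 4000000

namespace CfsgLib.Geo.SLFour.Klein

open Matrix Cfsg.Geo
open CfsgLib.Classical CfsgLib.Classical.Quad CfsgLib.Classical.SmallOrtho
open CfsgLib.Geo.Frame (fQ ee flipO permO IsMon MonBy dO)

variable {F : Type*} [Field F] (i : F)

local notation "M4" => Matrix (Fin 4) (Fin 4) F
local notation "V6" => (Fin 6 → F)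

/-- Five Pauli matrices of square minus one. -/
def pu : Fin 5 → M4 :=
  ![!![0, i, 0, 0; i, 0, 0, 0; 0, 0, 0, i; 0, 0, i, 0],
    !![i, 0, 0, 0; 0, -i, 0, 0; 0, 0, i, 0; 0, 0, 0, -i],
    !![0, 0, 0, i; 0, 0, -i, 0; 0, -i, 0, 0; i, 0, 0, 0],
    !![0, 1, 0, 0; -1, 0, 0, 0; 0, 0, 0, -1; 0, 0, 1, 0],
    !![0, 0, 0, 1; 0, 0, -1, 0; 0, 1, 0, 0; -1, 0, 0, 0]]

/-- Four elements acting as signed three-cycles. -/
def pg : Fin 4 → M4 :=
  ![(2 : F)⁻¹ • !![1 + i, 1 + i, 0, 0; -1 + i, 1 - i, 0, 0; 0, 0, 1 + i, 1 + i; 0, 0, -1 + i, 1 - i],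
    (2 : F)⁻¹ • !![1, i, 1, i; i, 1, -i, -1; -1, -i, 1, i; i, 1, i, 1],
    (2 : F)⁻¹ • !![1 - i, 1 + i, 0, 0; -1 + i, 1 + i, 0, 0; 0, 0, 1 + i, -1 + i; 0, 0, 1 + i, 1 - i],
    (2 : F)⁻¹ • !![1, i, -i, 1; i, 1, -1, i; -i, 1, 1, i; -1, i, i, 1]]

variable {i} (hi : i * i = -1) (h2 : (2 : F) ≠ 0)
include hi h2

omit h2 in
theorem pu_det (k : Fin 5) : (pu i k).det = 1 := by
  have p2 : i ^ 2 = -1 := by rw [pow_two, hi]
  have p4 : i ^ 4 = 1 := by rw [show i ^ 4 = (i * i) * (i * i) by ring, hi]; ring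
  fin_cases k <;> simp [pu, Matrix.det_succ_row_zero, Fin.sum_univ_succ, Fin.succAbove] <;>
    ring_nf <;> simp [p2, p4]

theorem pg_det (k : Fin 4) : (pg i k).det = 1 := by
  have p2 : i ^ 2 = -1 := by rw [pow_two, hi]
  have p3 : i ^ 3 = -i := by rw [pow_succ, p2]; ring
  have p4 : i ^ 4 = 1 := by rw [pow_succ, p3, neg_mul, hi, neg_neg]
  fin_cases k <;> simp [pg, Matrix.det_succ_row_zero, Fin.sum_univ_succ, Fin.succAbove] <;>
    (try field_simp) <;> (try ring_nf) <;> (try simp [p2, p3, p4]) <;> (try ring_nf)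

/-- The `k`th Pauli matrix as an element of the special linear group. -/
noncomputable def uS (k : Fin 5) : specialLinear (Fin 4) F :=
  ⟨Matrix.GeneralLinearGroup.mkOfDetNeZero (pu i k) (by rw [pu_det hi k]; exact one_ne_zero),
    MonoidHom.mem_ker.2 (Units.ext (pu_det hi k))⟩

/-- The `k`th three-cycle element. -/
noncomputable def gS (k : Fin 4) : specialLinear (Fin 4) F :=
  ⟨Matrix.GeneralLinearGroup.mkOfDetNeZero (pg i k) (by rw [pg_det hi h2 k]; exact one_ne_zero),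
    MonoidHom.mem_ker.2 (Units.ext (pg_det hi h2 k))⟩

omit hi h2 in
theorem kLin_coords (A : M4) (x : V6) (l : Fin 6) :
    kLin i A x l = inv6 i (A * altMat (x 3 + i * x 5) (i * x 0 + x 2) (x 1 + i * x 4) (x 1 - i * x 4)
      (i * x 0 - x 2) (x 3 - i * x 5) * Aᵀ) l := rfl

theorem kap_uS (k : Fin 5) : kap hi h2 (uS hi k) = flipO (1 : Fin 6 → F) {0, k.succ} := by
  have p2 : i ^ 2 = -1 := by rw [pow_two, hi]
  have p3 : i ^ 3 = -i := by rw [pow_succ, p2]; ring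
  have p4 : i ^ 4 = 1 := by rw [pow_succ, p3, neg_mul, hi, neg_neg]
  refine Frame.eq_of_smul fun x => funext fun l => ?_
  rw [kap_smul, Frame.flipO_apply]
  show kLin i (pu i k) x l = _
  rw [kLin_coords]
  fin_cases k <;> fin_cases l <;>
    simp [pu, inv6, altMat, Matrix.mul_apply, Matrix.vecMul, dotProduct, Fin.sum_univ_succ] <;>
    (try field_simp) <;> (try ring_nf) <;> (try simp [p2, p3, p4]) <;> (try ring_nf)

/-- The images of the cycle elements. -/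
def cycImg : Fin 4 → V6 → V6 :=
  ![fun x => ![x 1, -x 2, -x 0, x 3, x 4, x 5], fun x => ![x 1, x 3, x 2, x 0, x 4, x 5],
    fun x => ![x 1, x 4, x 2, x 3, x 0, x 5], fun x => ![x 1, -x 5, x 2, x 3, x 4, -x 0]]

theorem kap_gS (k : Fin 4) (x : V6) : kap hi h2 (gS hi h2 k) • x = cycImg k x := by
  have p2 : i ^ 2 = -1 := by rw [pow_two, hi]
  have p3 : i ^ 3 = -i := by rw [pow_succ, p2]; ring
  have p4 : i ^ 4 = 1 := by rw [pow_succ, p3, neg_mul, hi, neg_neg]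
  refine funext fun l => ?_
  rw [kap_smul]
  show kLin i (pg i k) x l = _
  rw [kLin_coords]
  fin_cases k <;> fin_cases l <;>
    simp [pg, cycImg, inv6, altMat, Matrix.mul_apply, Matrix.vecMul, dotProduct, Fin.sum_univ_succ] <;>
    (try field_simp) <;> (try ring_nf) <;> (try simp [p2, p3, p4]) <;> (try ring_nf)

end CfsgLib.Geo.SLFour.Klein
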