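import Cfsg.Agent.Lib.Classical.SmallOrtho.Alt
import Cfsg.Agent.Lib.Geo.Frame.Six

/-!
# The Klein correspondence in coordinates adapted to the Pauli matrices

Six alternating matrices, orthonormal for the Pfaffian, are eigenvectors of all Pauli matrices.
-/

set_option autoImplicit false
set_option maxHeartbeats 1000000

namespace CfsgLib.Geo.SLFour.Klein

open Matrix Cfsg.Geo
open CfsgLib.Classical CfsgLib.Classical.Quad CfsgLib.Classical.SmallOrtho
open CfsgLib.Geo.Frame (fQ ee flipO permO IsMon MonBy dO)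
open scoped MatrixGroups

variable {F : Type*} [Field F] (i : F)

local notation "M4" => Matrix (Fin 4) (Fin 4) F
local notation "V6" => (Fin 6 → F)

/-- The alternating matrix of a vector. -/
def E6 : V6 →ₗ[F] M4 where
  toFun x := altMat (x 3 + i * x 5) (i * x 0 + x 2) (x 1 + i * x 4) (x 1 - i * x 4) (i * x 0 - x 2) (x 3 - i * x 5)
  map_add' x y := by rw [← altMat_add]; congr 1 <;> simp <;> ring
  map_smul' c x := by rw [RingHom.id_apply, ← altMat_smul]; congr 1 <;> simp <;> ring

/-- The coordinates of an alternating matrix. -/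
def inv6 : M4 →ₗ[F] V6 where
  toFun M := ![-i * 2⁻¹ * (M 0 2 + M 1 3), 2⁻¹ * (M 0 3 + M 1 2), 2⁻¹ * (M 0 2 - M 1 3), 2⁻¹ * (M 0 1 + M 2 3),
    -i * 2⁻¹ * (M 0 3 - M 1 2), -i * 2⁻¹ * (M 0 1 - M 2 3)]
  map_add' x y := by funext l; fin_cases l <;> simp <;> ring
  map_smul' c x := by funext l; fin_cases l <;> simp <;> ring

variable {i} (hi : i * i = -1) (h2 : (2 : F) ≠ 0)
include hi h2

theorem inv6_E6 (x : V6) : inv6 i (E6 i x) = x := by
  funext l
  fin_cases l <;> simp [inv6, E6, altMat] <;> field_simp <;> first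
    | ring1
    | linear_combination (-2 * x 0) * hi
    | linear_combination (-2 * x 4) * hi
    | linear_combination (-2 * x 5) * hi
    | linear_combination (2 * x 0) * hi
    | linear_combination (2 * x 4) * hi
    | linear_combination (2 * x 5) * hi

theorem E6_inv6 (M : M4) : E6 i (inv6 i M) = altOf M := by
  show altMat _ _ _ _ _ _ = altMat _ _ _ _ _ _
  simp only [inv6, LinearMap.coe_mk, AddHom.coe_mk, Matrix.cons_val_zero, Matrix.cons_val_one, Matrix.cons_val]
  congr 1 <;> field_simp <;> first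
    | linear_combination (-(M 0 1) + M 2 3) * hi
    | linear_combination (M 0 1 - M 2 3) * hi
    | linear_combination (-(M 0 2) - M 1 3) * hi
    | linear_combination (M 0 2 + M 1 3) * hi
    | linear_combination (-(M 0 3) + M 1 2) * hi
    | linear_combination (M 0 3 - M 1 2) * hi

theorem E6_injective : Function.Injective (E6 i : V6 → M4) := fun x y e => by
  rw [← inv6_E6 hi h2 x, e, inv6_E6 hi h2]

omit h2 in
theorem pf_E6 (x : V6) : pf (E6 i x) = x ⬝ᵥ x := by
  show pf (altMat _ _ _ _ _ _) = _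
  rw [pf_altMat]
  simp [dotProduct, Fin.sum_univ_succ]
  linear_combination (-(x 5 * x 5) - x 0 * x 0 - x 4 * x 4) * hi

omit hi h2 in
/-- The action on vectors. -/
def kLin (i : F) (A : M4) : V6 →ₗ[F] V6 :=
  (inv6 i).comp ((LinearMap.mulRight F Aᵀ).comp ((LinearMap.mulLeft F A).comp (E6 i)))

omit hi h2 in
theorem kLin_apply (A : M4) (x : V6) : kLin i A x = inv6 i (A * E6 i x * Aᵀ) := rfl

theorem E6_kLin (A : M4) (x : V6) : E6 i (kLin i A x) = A * E6 i x * Aᵀ := by
  rw [kLin_apply, E6_inv6 hi h2]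
  exact altOf_congr _ _ _ _ _ _ _

theorem kLin_mul (A B : M4) (x : V6) : kLin i (A * B) x = kLin i A (kLin i B x) := by
  refine E6_injective hi h2 ?_
  rw [E6_kLin hi h2, E6_kLin hi h2, E6_kLin hi h2, Matrix.transpose_mul]
  simp only [mul_assoc]

theorem kLin_one (x : V6) : kLin i (1 : M4) x = x := by
  rw [kLin_apply, one_mul, Matrix.transpose_one, mul_one, inv6_E6 hi h2]

theorem kLin_preserves {A : M4} (hA : A.det = 1) (x : V6) : fQ F (Fin 6) (kLin i A x) = fQ F (Fin 6) x := by
  rw [Frame.fQ_apply, Frame.fQ_apply, ← pf_E6 hi, E6_kLin hi h2, ← pf_E6 hi (i := i) x]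
  show pf (A * altMat _ _ _ _ _ _ * Aᵀ) = pf (altMat _ _ _ _ _ _)
  rw [pf_congr, hA, one_mul, pf_altMat]

omit hi h2 in
theorem det_coe (g : specialLinear (Fin 4) F) : ((g : GL (Fin 4) F) : M4).det = 1 :=
  congrArg Units.val (MonoidHom.mem_ker.1 g.2)

omit hi h2 in
theorem coe_mul_inv (g : specialLinear (Fin 4) F) :
    ((g : GL (Fin 4) F) : M4) * ((g⁻¹ : specialLinear (Fin 4) F) : GL (Fin 4) F) = 1 := by
  rw [Subgroup.coe_inv, Units.mul_inv]

omit hi h2 in
theorem coe_inv_mul (g : specialLinear (Fin 4) F) :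
    (((g⁻¹ : specialLinear (Fin 4) F) : GL (Fin 4) F) : M4) * (g : GL (Fin 4) F) = 1 := by
  rw [Subgroup.coe_inv, Units.inv_mul]

/-- The linear equivalence of an element of determinant one. -/
def kEquiv (g : specialLinear (Fin 4) F) : V6 ≃ₗ[F] V6 :=
  LinearEquiv.ofLinear (kLin i ((g : GL (Fin 4) F) : M4))
    (kLin i (((g⁻¹ : specialLinear (Fin 4) F) : GL (Fin 4) F) : M4))
    (LinearMap.ext fun x => by
      rw [LinearMap.comp_apply, ← kLin_mul hi h2, coe_mul_inv, kLin_one hi h2, LinearMap.id_apply])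
    (LinearMap.ext fun x => by
      rw [LinearMap.comp_apply, ← kLin_mul hi h2, coe_inv_mul, kLin_one hi h2, LinearMap.id_apply])

/-- The Klein correspondence. -/
def kap : specialLinear (Fin 4) F →* OQ (fQ F (Fin 6)) :=
  MonoidHom.mk' (fun g => ⟨kEquiv hi h2 g, mem_OQ.2 fun x => kLin_preserves hi h2 (det_coe g) x⟩)
    fun g g' => Frame.eq_of_smul fun x => kLin_mul hi h2 _ _ x

theorem kap_smul (g : specialLinear (Fin 4) F) (x : V6) : kap hi h2 g • x = kLin i ((g : GL (Fin 4) F) : M4) x := rfl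

theorem eq_or_eq_neg_of_kap {g g' : specialLinear (Fin 4) F} (h : kap hi h2 g = kap hi h2 g') :
    (g : GL (Fin 4) F) = g' ∨ (g : GL (Fin 4) F) = -g' := by
  set d := g'⁻¹ * g with hd
  have hd1 : kap hi h2 d = 1 := by rw [hd, map_mul, map_inv, h, inv_mul_cancel]
  obtain ⟨e, hsq⟩ := eq_scalar_of_fix ((d : GL (Fin 4) F) : M4) fun p01 p02 p03 p12 p13 p23 => by
    have e1 := congrArg (fun f : OQ (fQ F (Fin 6)) => E6 i (f • inv6 i (altMat p01 p02 p03 p12 p13 p23))) hd1
    simp only [one_smul, kap_smul, E6_kLin hi h2, E6_inv6 hi h2, altOf_altMat] at e1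
    exact e1
  have hg : (g : GL (Fin 4) F) = g' * d := by
    rw [hd, Subgroup.coe_mul, Subgroup.coe_inv, mul_inv_cancel_left]
  rcases sq_eq_one_iff.1 hsq with h1 | h1 <;> rw [h1] at e
  · left
    rw [hg, show (d : GL (Fin 4) F) = 1 from Units.ext (by rw [e, map_one, Units.val_one]), mul_one]
  · right
    rw [hg, show (d : GL (Fin 4) F) = -1 from Units.ext (by rw [e, map_neg, map_one, Units.val_neg, Units.val_one]),
      mul_neg_one]

omit hi h2 in
theorem mem_commutator (g : specialLinear (Fin 4) F) : g ∈ commutator (specialLinear (Fin 4) F) := by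
  classical
  let φ : SpecialLinearGroup (Fin 4) F →* specialLinear (Fin 4) F :=
    SpecialLinearGroup.toGL.codRestrict _ fun s => MonoidHom.mem_ker.2 (Units.ext s.2)
  let g' : SpecialLinearGroup (Fin 4) F := ⟨((g : GL (Fin 4) F) : M4), det_coe g⟩
  have hφ : φ g' = g := Subtype.ext (Units.ext rfl)
  have h0 : g' ∈ commutator (SpecialLinearGroup (Fin 4) F) := by
    rw [commutator_SL_eq_top (by norm_num)]; exact Subgroup.mem_top _
  have h1 := Subgroup.mem_map_of_mem φ h0
  rw [hφ, commutator_def, Subgroup.map_commutator] at h1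
  exact Subgroup.commutator_mono le_top le_top h1

theorem dO_kap (g : specialLinear (Fin 4) F) : dO (kap hi h2 g) = 1 :=
  MonoidHom.mem_ker.1 (Abelianization.commutator_subset_ker ((dO).comp (kap hi h2)) (mem_commutator g))

theorem kap_mem_eichGroup [Finite F] (g : specialLinear (Fin 4) F) :
    kap hi h2 g ∈ eichGroup (Frame.fQ_nondegenerate (F := F) (ι := Fin 6) h2) := by
  rw [eichGroup_eq_commutator _ (by simp)]
  have h1 := Subgroup.mem_map_of_mem (kap hi h2) (mem_commutator g)
  rw [commutator_def, Subgroup.map_commutator] at h1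
  exact Subgroup.commutator_mono le_top le_top h1

end CfsgLib.Geo.SLFour.Klein
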