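/-
The stabiliser of four independent lines is maximal in SL(4) for at least seven field elements.
-/
import Cfsg.Agent.Lib.Geo.BlockDecompFinal
import Cfsg.Agent.Lib.Geo.SLFour.Classes

set_option autoImplicit false

namespace CfsgLib.Geo.SLFour

open Matrix Monomial CfsgLib.Geo.BlockDecomp

variable {F : Type*} [Field F] [Fintype F]

theorem exists_torus (hq : 7 ≤ Fintype.card F) (w : Fin 4 → F) (hw : ∀ b, w b ≠ 0) :
    ∃ t : Fin 4 → Fˣ, ∏ b, t b = 1 ∧ (t 0 : F) + ∑ b, w b * t b = 0 ∧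
      ∃ i j, i ≠ j ∧ t i ≠ t 0 ∧ t j ≠ t 0 := by
  classical
  suffices h : ∃ t : Fin 4 → F, ∏ b, t b = 1 ∧ t 0 + ∑ b, w b * t b = 0 ∧ ∃ i j, i ≠ j ∧ t i ≠ t 0 ∧ t j ≠ t 0 by
    obtain ⟨t, h1, h2, i, j, hij, hi, hj⟩ := h
    have h0 : ∀ b, t b ≠ 0 := fun b e => zero_ne_one (α := F)
      (by rw [← h1]; exact (Finset.prod_eq_zero (Finset.mem_univ b) e).symm)
    exact ⟨fun b => Units.mk0 _ (h0 b), Units.ext (by simpa [Units.coe_prod] using h1), by simpa using h2, i, j, hij,
      fun e => hi (congrArg Units.val e), fun e => hj (congrArg Units.val e)⟩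
  by_cases hw0 : w 0 = -1
  · obtain ⟨ζ, -, hζ⟩ := Finset.exists_mem_notMem_of_card_lt_card
      (s := ({0, -1, w 2 / w 1, -1 - w 3 / w 1, -w 2 / (w 2 + w 3)} : Finset F)) (t := Finset.univ)
      (lt_of_le_of_lt Finset.card_le_five (by rw [Finset.card_univ]; omega))
    simp only [Finset.mem_insert, Finset.mem_singleton, not_or] at hζ
    obtain ⟨z0, z1, z12, z13, z23⟩ := hζ
    set t1 := 1 / w 1 with ht1
    set t2 := ζ / w 2 with ht2
    set t3 := (-1 - ζ) / w 3 with ht3
    have h1 : t1 ≠ 0 := one_div_ne_zero (hw 1)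
    have h2 : t2 ≠ 0 := div_ne_zero z0 (hw 2)
    have h3 : t3 ≠ 0 := div_ne_zero (fun e => z1 (by linear_combination -e)) (hw 3)
    have n12 : t1 ≠ t2 := fun e => z12 (by
      rw [ht1, ht2, div_eq_div_iff (hw 1) (hw 2)] at e
      rw [eq_div_iff (hw 1)]
      linear_combination -e)
    have n13 : t1 ≠ t3 := fun e => z13 (by
      rw [ht1, ht3, div_eq_div_iff (hw 1) (hw 3)] at e
      field_simp [hw 1]
      linear_combination e)
    have n23 : t2 ≠ t3 := fun e => z23 (by
      rw [ht2, ht3, div_eq_div_iff (hw 2) (hw 3)] at e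
      by_cases hs : w 2 + w 3 = 0
      · exfalso
        exact hw 2 (by linear_combination e - ζ * hs)
      · rw [eq_div_iff hs]
        linear_combination e)
    refine ⟨![(t1 * t2 * t3)⁻¹, t1, t2, t3], ?_, ?_, ?_⟩
    · simp [Fin.prod_univ_four]
      field_simp
    · simp [Fin.sum_univ_four, hw0, ht1, ht2, ht3]
      have := hw 1; have := hw 2; have := hw 3
      field_simp
      ring
    · by_cases e1 : t1 = (t1 * t2 * t3)⁻¹
      · exact ⟨2, 3, by decide, by simpa using fun e : t2 = _ => n12 (e1.trans e.symm),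
          by simpa using fun e : t3 = _ => n13 (e1.trans e.symm)⟩
      · by_cases e2 : t2 = (t1 * t2 * t3)⁻¹
        · exact ⟨1, 3, by decide, by simpa using e1, by simpa using fun e : t3 = _ => n23 (e2.trans e.symm)⟩
        · exact ⟨1, 2, by decide, by simpa using e1, by simpa using e2⟩
  set a : Fin 4 → F := fun b => w b + if b = 0 then 1 else 0
  have ha : ∀ b, a b ≠ 0 := fun b => by
    by_cases hb : b = 0
    · subst hb
      simpa [a] using fun e : w 0 + 1 = 0 => hw0 (eq_neg_of_add_eq_zero_left e)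
    · simpa [a, hb] using hw b
  obtain ⟨T, hT, hTs⟩ := exists_solutions hq (C := ∏ b, a b) (Finset.prod_ne_zero_iff.2 fun b _ => ha b)
  let v : Fin 4 → Fin 4 → F := fun l b =>
    if b = l then -∑ b' ∈ Finset.univ.erase l, a b' / a 0 else a b / a 0
  obtain ⟨s, hs, hgood⟩ := Finset.exists_mem_notMem_of_card_lt_card
    (s := ((Finset.univ : Finset (Fin 4)).erase 0).image v) (t := T)
    (lt_of_le_of_lt Finset.card_image_le (by simp; omega))
  obtain ⟨hs0, hssum, n, hn, hsprod⟩ := hTs s hs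
  set t : Fin 4 → F := fun b => s b / (a b * n) with ht
  have hat : ∀ b, a b * t b = s b / n := fun b => by
    simp only [ht]
    have := ha b
    field_simp
  refine ⟨t, ?_, ?_, ?_⟩
  · have e : ∏ b : Fin 4, (a b * n) = (∏ b, a b) * n ^ 4 := by
      rw [Finset.prod_mul_distrib, Finset.prod_const, Finset.card_univ, Fintype.card_fin]
    simp only [ht, Finset.prod_div_distrib]
    rw [e, hsprod, div_self]
    exact mul_ne_zero (Finset.prod_ne_zero_iff.2 fun b _ => ha b) (pow_ne_zero _ hn)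
  · calc t 0 + ∑ b, w b * t b = ∑ b, a b * t b := by
          simp [a, add_mul, Finset.sum_add_distrib]; ring
      _ = 0 := by simp only [hat, ← Finset.sum_div, hssum, zero_div]
  by_contra! hno
  obtain ⟨l, hl0, hl⟩ : ∃ l : Fin 4, l ≠ 0 ∧ ∀ b, b ≠ l → t b = t 0 := by
    by_cases h : ∃ l, t l ≠ t 0
    · obtain ⟨l, hl⟩ := h
      exact ⟨l, fun e => hl (e ▸ rfl), fun b hb => hno l b hb.symm hl⟩
    · push Not at h
      exact ⟨1, by decide, fun b _ => h b⟩
  refine hgood (Finset.mem_image.2 ⟨l, Finset.mem_erase.2 ⟨hl0, Finset.mem_univ _⟩, ?_⟩)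
  have hval : ∀ b, b ≠ l → s b = a b / a 0 := fun b hb => by
    have e := hl b hb
    simp only [ht, hs0] at e
    have := ha b
    have := ha 0
    field_simp at e ⊢
    linear_combination e
  funext b
  simp only [v]
  split_ifs with hb
  · rw [hb]
    have e := Finset.add_sum_erase Finset.univ s (Finset.mem_univ l)
    rw [hssum] at e
    rw [← Finset.sum_congr rfl fun b' hb' => hval b' (Finset.mem_erase.1 hb').1]
    linear_combination -e
  · exact (hval b hb).symm

variable {ι : Type} [Fintype ι] [DecidableEq ι] {X : Subgroup (GL ι F)}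

omit [Fintype F] in
/-- The torus element used to produce conjugates. -/
theorem conj_torus (g : GL ι F) (k : ι) (c : Fˣ) (a b : ι) :
    ((g * dg (fun x => if x = k then (c ^ 3)⁻¹ else c) * g⁻¹ : GL ι F) : Matrix ι ι F) a b =
      (if a = b then (c : F) else 0) + ((((c : F) ^ 3)⁻¹ - c) * ((g : Matrix ι ι F) a k * ((g⁻¹ : GL ι F) : Matrix ι ι F) k b)) := by
  have hd : ((dg (fun x => if x = k then (c ^ 3)⁻¹ else c) : GL ι F) : Matrix ι ι F) =
      (c : F) • 1 + (((c : F) ^ 3)⁻¹ - c) • Matrix.vecMulVec (Pi.single k 1) (Pi.single k 1) := by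
    rw [coe_dg]
    ext r l
    by_cases hrl : r = l
    · subst hrl
      by_cases hr : r = k <;> simp [hr, Matrix.vecMulVec_apply]
    · by_cases hr : r = k
      · subst hr; simp [hrl, Ne.symm hrl, Matrix.vecMulVec_apply]
      · simp [hrl, hr, Matrix.vecMulVec_apply]
  rw [Units.val_mul, Units.val_mul, hd, mul_add, add_mul, Matrix.mul_smul, mul_one, Matrix.smul_mul, Units.mul_inv,
    Matrix.mul_smul, Matrix.smul_mul, Matrix.mul_vecMulVec, Matrix.vecMulVec_mul]
  simp [Matrix.one_apply, Matrix.vecMulVec_apply, Matrix.mulVec_single_one, Matrix.single_one_vecMul]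

variable (hq : 7 ≤ Fintype.card F) (hι : Fintype.card ι = 4)
  (hdiag : ∀ t : ι → Fˣ, ∏ x, t x = 1 → (dg t : GL ι F) ∈ X)
  (hperm : ∀ σ : Equiv.Perm ι, ∃ w ∈ X, ∀ i j, i ≠ σ j → ((w : GL ι F) : Matrix ι ι F) i j = 0)

omit [Fintype F] in
include hι in
theorem prod_torus (k : ι) (c : Fˣ) : ∏ x, (if x = k then (c ^ 3)⁻¹ else c) = 1 := by
  rw [← Finset.mul_prod_erase _ _ (Finset.mem_univ k), if_pos rfl,
    Finset.prod_congr rfl fun x hx => if_neg (Finset.mem_erase.1 hx).1, Finset.prod_const,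
    Finset.card_erase_of_mem (Finset.mem_univ k), Finset.card_univ, hι, inv_mul_cancel]

include hq hι hdiag in
omit hι in
theorem exists_order_four : ∃ s : Fˣ, (s : F) ^ 2 ≠ 1 ∧ (s : F) ^ 3 ≠ 1 ∧ (s : F) ^ 4 ≠ 1 := by
  obtain ⟨s, hs⟩ := IsCyclic.exists_ofOrder_eq_natCard (α := Fˣ)
  rw [Nat.card_units, Nat.card_eq_fintype_card] at hs
  refine ⟨s, fun e => ?_, fun e => ?_, fun e => ?_⟩ <;>
  · rw [← Units.val_pow_eq_pow_val, Units.val_eq_one] at e
    have := Nat.le_of_dvd (by norm_num) (orderOf_dvd_of_pow_eq_one e)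
    omega

include hq hι hdiag hperm in
theorem fix_of_two_zeros {g : GL ι F} (hg : g ∈ X) (hnm : ¬ Mon g) {k i j : ι} (hij : i ≠ j)
    (hi : (g : Matrix ι ι F) i k = 0) (hj : (g : Matrix ι ι F) j k = 0) : Monomial.Fix X := by
  classical
  by_cases hsingle : ∃ m, ∀ r, r ≠ m → (g : Matrix ι ι F) r k = 0
  · obtain ⟨m, hm⟩ := hsingle
    exact Monomial.fix_of_single hperm hg hnm hm
  obtain ⟨s, hs2, hs3, hs4⟩ := exists_order_four hq hdiag
  set u := g⁻¹ * dg (pairAt i j s) * g with hudef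
  have hu : u ∈ X := X.mul_mem (X.mul_mem (X.inv_mem hg) (hdiag _ (prod_pairAt i j s))) hg
  have huk : (u : Matrix ι ι F) *ᵥ Pi.single k 1 = Pi.single k 1 := by
    refine Matrix.mulVec_injective_iff_isUnit.2 g.isUnit ?_
    rw [Matrix.mulVec_mulVec, ← Units.val_mul, show g * u = dg (pairAt i j s) * g by rw [hudef]; group,
      Units.val_mul, ← Matrix.mulVec_mulVec, Matrix.mulVec_single_one]
    funext r
    rw [dg_mulVec, pairAt_apply hij, Matrix.col_apply]
    split_ifs with h1 h2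
    · subst h1; rw [hi, mul_zero]
    · subst h2; rw [hj, mul_zero]
    · simp
  by_cases hum : Mon u
  swap
  · refine ⟨u, hu, hum, k, fun r hr => ?_⟩
    have := congrFun huk r
    simpa [Matrix.mulVec_single_one, hr] using this
  obtain ⟨P, hP, hout, hin⟩ := Monomial.block hij hs2 hs3 hum
  have hkP : k ∉ P := fun hk => hsingle ⟨k, fun r _ => by
    by_cases hr : r ∈ ({i, j} : Finset ι)
    · simp only [Finset.mem_insert, Finset.mem_singleton] at hr
      rcases hr with rfl | rfl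
      · exact hi
      · exact hj
    · exact hin k hk r hr⟩
  obtain ⟨x, hxP, hxk⟩ : ∃ x, x ∉ P ∧ x ≠ k := by
    obtain ⟨x, -, hx⟩ := Finset.exists_mem_notMem_of_card_lt_card (s := insert k P) (t := Finset.univ) (by
      have := Finset.card_insert_le k P
      rw [Finset.card_univ]; omega)
    simp only [Finset.mem_insert, not_or] at hx
    exact ⟨x, hx.2, hx.1⟩
  have hzi : ∀ z, z ∉ P → (((g⁻¹ : GL ι F) : Matrix ι ι F) *ᵥ Pi.single i 1) z = 0 :=
    support_of_block g hout hin fun r hr => by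
      rw [Matrix.mulVec_mulVec, Units.mul_inv, Matrix.one_mulVec]
      exact Pi.single_eq_of_ne (fun e => hr (by simp [e])) _
  set y := g * dg (pairAt k x s) * g⁻¹ with hydef
  have hy : y ∈ X := X.mul_mem (X.mul_mem hg (hdiag _ (prod_pairAt k x s))) (X.inv_mem hg)
  have hyg : ∀ z, (y : Matrix ι ι F) *ᵥ ((g : Matrix ι ι F) *ᵥ z) =
      (g : Matrix ι ι F) *ᵥ (((dg (pairAt k x s) : GL ι F) : Matrix ι ι F) *ᵥ z) := fun z => by
    rw [Matrix.mulVec_mulVec, Matrix.mulVec_mulVec, ← Units.val_mul, ← Units.val_mul, hydef, inv_mul_cancel_right]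
  have hyi : (y : Matrix ι ι F) *ᵥ Pi.single i 1 = Pi.single i 1 := by
    have e0 : (g : Matrix ι ι F) *ᵥ (((g⁻¹ : GL ι F) : Matrix ι ι F) *ᵥ Pi.single i 1) = Pi.single i 1 := by
      rw [Matrix.mulVec_mulVec, Units.mul_inv, Matrix.one_mulVec]
    conv_lhs => rw [← e0]
    rw [hyg]
    conv_rhs => rw [← e0]
    congr 1
    funext r
    rw [dg_mulVec, pairAt_apply hxk.symm]
    split_ifs with h1 h2
    · subst h1; rw [hzi r hkP, mul_zero]
    · subst h2; rw [hzi r hxP, mul_zero]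
    · simp
  by_cases hym : Mon y
  swap
  · refine ⟨y, hy, hym, i, fun r hr => ?_⟩
    have := congrFun hyi r
    simpa [Matrix.mulVec_single_one, hr] using this
  exfalso
  obtain ⟨σ, hσ⟩ := hym
  set c : ι → F := fun r => (g : Matrix ι ι F) r k
  set d : ι → F := fun r => (g : Matrix ι ι F) r x
  have hcol : ∀ z, z ∉ P → ∀ r ∈ ({i, j} : Finset ι), (g : Matrix ι ι F) r z = 0 := hout
  obtain ⟨m, n, hmn, hS⟩ := Finset.card_eq_two.1 (show (Finset.univ \ ({i, j} : Finset ι)).card = 2 by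
    rw [Finset.card_univ_sdiff, Finset.card_pair hij, hι])
  have hsupp : ∀ r, r ≠ m → r ≠ n → r ∈ ({i, j} : Finset ι) := fun r h1 h2 => by
    by_contra hr
    have : r ∈ ({m, n} : Finset ι) := hS ▸ Finset.mem_sdiff.2 ⟨Finset.mem_univ r, hr⟩
    simp [h1, h2] at this
  have hcm : c m ≠ 0 := fun e => hsingle ⟨n, fun r hr => by
    by_cases hrm : r = m
    · rw [hrm]; exact e
    · exact hcol k hkP r (hsupp r hrm hr)⟩
  have hcn : c n ≠ 0 := fun e => hsingle ⟨m, fun r hr => by
    by_cases hrn : r = n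
    · rw [hrn]; exact e
    · exact hcol k hkP r (hsupp r hr hrn)⟩
  have ec : ∀ l, (y : Matrix ι ι F) (σ l) l * c l = (s : F) * c (σ l) := fun l => by
    have := congrFun (hyg (Pi.single k 1)) (σ l)
    rw [Mon.mulVec_apply hσ, show ((dg (pairAt k x s) : GL ι F) : Matrix ι ι F) *ᵥ Pi.single k 1 =
      (s : F) • Pi.single k 1 by
        funext r
        rw [dg_mulVec, pairAt_apply hxk.symm]
        by_cases hr : r = k <;> simp [hr], Matrix.mulVec_smul, Matrix.mulVec_single_one] at this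
    simpa [c] using this
  have ed : ∀ l, (y : Matrix ι ι F) (σ l) l * d l = (s : F)⁻¹ * d (σ l) := fun l => by
    have := congrFun (hyg (Pi.single x 1)) (σ l)
    rw [Mon.mulVec_apply hσ, show ((dg (pairAt k x s) : GL ι F) : Matrix ι ι F) *ᵥ Pi.single x 1 =
      (s : F)⁻¹ • Pi.single x 1 by
        funext r
        rw [dg_mulVec, pairAt_apply hxk.symm]
        by_cases hr : r = x <;> simp [hr, hxk], Matrix.mulVec_smul, Matrix.mulVec_single_one] at this
    simpa [d] using this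
  have hs0 : (s : F) ≠ 0 := s.ne_zero
  have hmem : ∀ l, c l ≠ 0 → σ l = m ∨ σ l = n := fun l hl => by
    by_contra! h
    have e0 : c (σ l) = 0 := hcol k hkP _ (hsupp _ h.1 h.2)
    have := ec l
    rw [e0, mul_zero, mul_eq_zero] at this
    exact this.elim (Mon.ne_zero hσ l) hl
  have hd : d m = 0 ∧ d n = 0 := by
    rcases hmem m hcm with hm | hm
    · have hn : σ n = n := (hmem n hcn).resolve_left fun e => hmn (σ.injective (hm.trans e.symm))
      have key : ∀ l, σ l = l → c l ≠ 0 → d l = 0 := fun l hl hcl => by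
        have e1 := ec l
        have e2 := ed l
        rw [hl] at e1 e2
        rw [mul_right_cancel₀ hcl e1] at e2
        have e3 : ((s : F) ^ 2 - 1) * d l = 0 := by
          field_simp at e2
          linear_combination e2
        exact (mul_eq_zero.1 e3).resolve_left (sub_ne_zero.2 hs2)
      exact ⟨key m hm hcm, key n hn hcn⟩
    · have hn : σ n = m := (hmem n hcn).resolve_right fun e => hmn (σ.injective (hm.trans e.symm))
      have e1 := ec m
      have e2 := ec n
      have e3 := ed m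
      have e4 := ed n
      rw [hm] at e1 e3
      rw [hn] at e2 e4
      set α := (y : Matrix ι ι F) n m
      set β := (y : Matrix ι ι F) m n
      have hαβ : α * β = (s : F) ^ 2 := mul_right_cancel₀ (mul_ne_zero hcm hcn) (by
        linear_combination (β * c n) * e1 + ((s : F) * c n) * e2)
      field_simp at e3 e4
      have h4 : ((s : F) ^ 4 - 1) * d m = 0 := by
        linear_combination ((s : F) * β) * e3 + e4 - (s : F) ^ 2 * d m * hαβ
      have hdm := (mul_eq_zero.1 h4).resolve_left (sub_ne_zero.2 hs4)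
      exact ⟨hdm, by rw [hdm] at e3; linear_combination -e3⟩
  have hz : (g : Matrix ι ι F) *ᵥ Pi.single x 1 = (g : Matrix ι ι F) *ᵥ 0 := by
    rw [Matrix.mulVec_zero, Matrix.mulVec_single_one]
    funext r
    by_cases h1 : r = m
    · rw [h1]; exact hd.1
    by_cases h2 : r = n
    · rw [h2]; exact hd.2
    · exact hcol x hxP r (hsupp r h1 h2)
  exact one_ne_zero (α := F) (by simpa using congrFun (Matrix.mulVec_injective_iff_isUnit.2 g.isUnit hz) x)

include hq hι hdiag hperm in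
theorem fix_of_zero {g : GL ι F} (hg : g ∈ X) (hnm : ¬ Mon g) {k i : ι} (hi : (g : Matrix ι ι F) i k = 0) :
    Monomial.Fix X := by
  classical
  by_cases h2 : ∃ j, i ≠ j ∧ (g : Matrix ι ι F) j k = 0
  · obtain ⟨j, hij, hj⟩ := h2
    exact fix_of_two_zeros hq hι hdiag hperm hg hnm hij hi hj
  push Not at h2
  obtain ⟨s, -, -, hs4⟩ := exists_order_four hq hdiag
  set ν := ((s : F) ^ 3)⁻¹ - s
  have hν : ν ≠ 0 := fun e => hs4 (by
    have hs0 : (s : F) ≠ 0 := s.ne_zero
    simp only [ν] at e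
    field_simp at e
    linear_combination -e)
  set y := g * dg (fun x => if x = k then (s ^ 3)⁻¹ else s) * g⁻¹ with hydef
  have hy : y ∈ X := X.mul_mem (X.mul_mem hg (hdiag _ (prod_torus hι k s))) (X.inv_mem hg)
  set r : ι → F := fun b => ((g⁻¹ : GL ι F) : Matrix ι ι F) k b
  have hye : ∀ a b, (y : Matrix ι ι F) a b = (if a = b then (s : F) else 0) + ν * ((g : Matrix ι ι F) a k * r b) :=
    conj_torus g k s
  have hthree : ∀ l₀, ∃ a b, a ≠ b ∧ a ≠ i ∧ b ≠ i ∧ a ≠ l₀ ∧ b ≠ l₀ := fun l₀ => by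
    have hc : 1 < ((Finset.univ.erase i).erase l₀).card := by
      have h1 := Finset.pred_card_le_card_erase (a := l₀) (s := Finset.univ.erase i)
      rw [Finset.card_erase_of_mem (Finset.mem_univ i), Finset.card_univ, hι] at h1
      omega
    obtain ⟨a, ha, b, hb, hab⟩ := Finset.one_lt_card.1 hc
    simp only [Finset.mem_erase] at ha hb
    exact ⟨a, b, hab, ha.2.1, hb.2.1, ha.1, hb.1⟩
  obtain ⟨l₀, hl₀⟩ : ∃ l, r l ≠ 0 := by
    by_contra! h
    have := congrFun (congrFun (Units.inv_mul g) k) k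
    rw [Matrix.mul_apply, Matrix.one_apply_eq, Finset.sum_eq_zero fun b _ => by rw [show ((g⁻¹ : GL ι F) : Matrix ι ι F) k b = 0 from h b, zero_mul]] at this
    exact zero_ne_one this
  have hne : ∀ a b, a ≠ b → a ≠ i → r b ≠ 0 → (y : Matrix ι ι F) a b ≠ 0 := fun a b hab ha hb => by
    rw [hye, if_neg hab, zero_add]
    exact mul_ne_zero hν (mul_ne_zero (h2 a (Ne.symm ha)) hb)
  have hym : ¬ Mon y := fun ⟨σ, hσ⟩ => by
    obtain ⟨a, b, hab, ha, hb, hal, hbl⟩ := hthree l₀
    have h1 : a = σ l₀ := by_contra fun h => hne a l₀ hal ha hl₀ (hσ a l₀ h)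
    have h2 : b = σ l₀ := by_contra fun h => hne b l₀ hbl hb hl₀ (hσ b l₀ h)
    exact hab (h1.trans h2.symm)
  by_cases hr : ∃ x, r x = 0
  · obtain ⟨x, hx⟩ := hr
    refine ⟨y, hy, hym, x, fun a ha => ?_⟩
    rw [hye, if_neg ha, hx, mul_zero, mul_zero, add_zero]
  push Not at hr
  set z := y * dg (fun x => if x = i then (s ^ 3)⁻¹ else s) * y⁻¹ with hzdef
  have hz : z ∈ X := X.mul_mem (X.mul_mem hy (hdiag _ (prod_torus hι i s))) (X.inv_mem hy)
  have hrow : ∀ b, (y : Matrix ι ι F) i b = if i = b then (s : F) else 0 := fun b => by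
    rw [hye, hi, zero_mul, mul_zero, add_zero]
  have hrowinv : ∀ b, (s : F) * ((y⁻¹ : GL ι F) : Matrix ι ι F) i b = if i = b then 1 else 0 := fun b => by
    have := congrFun (congrFun (Units.mul_inv y) i) b
    rw [Matrix.mul_apply, Finset.sum_eq_single i, hrow, if_pos rfl, Matrix.one_apply] at this
    · exact this
    · intro c _ hc
      rw [hrow, if_neg hc.symm, zero_mul]
    · simp
  obtain ⟨l, -, -, hl, -, -, -⟩ := hthree i
  refine ⟨z, hz, ?_, l, ?_⟩
  · rintro ⟨σ, hσ⟩
    obtain ⟨a, b, hab, ha, hb, -, -⟩ := hthree i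
    have hne' : ∀ a, a ≠ i → (z : Matrix ι ι F) a i ≠ 0 := fun a ha => by
      rw [conj_torus, if_neg ha, zero_add]
      refine mul_ne_zero hν (mul_ne_zero (hne a i ha ha (hr i)) fun e => ?_)
      have := hrowinv i
      rw [e, mul_zero, if_pos rfl] at this
      exact zero_ne_one this
    have h1 : a = σ i := by_contra fun h => hne' a ha (hσ a i h)
    have h2 : b = σ i := by_contra fun h => hne' b hb (hσ b i h)
    exact hab (h1.trans h2.symm)
  · intro a ha
    rw [conj_torus, if_neg ha]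
    have := hrowinv l
    rw [if_neg (Ne.symm hl), mul_eq_zero] at this
    rw [this.resolve_left s.ne_zero, mul_zero, mul_zero, add_zero]

include hq hι hdiag hperm in
theorem exists_fix {g : GL ι F} (hg : g ∈ X) (hnm : ¬ Mon g) : Monomial.Fix X := by
  classical
  by_contra hfix
  have hfull : ∀ h ∈ X, ¬ Mon h → ∀ a b, (h : Matrix ι ι F) a b ≠ 0 := fun h hh hhm a b e =>
    hfix (fix_of_zero hq hι hdiag hperm hh hhm e)
  obtain ⟨e⟩ : Nonempty (Fin 4 ≃ ι) := ⟨(Fintype.equivFinOfCardEq hι).symm⟩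
  obtain ⟨s, -, -, hs4⟩ := exists_order_four hq hdiag
  set ν := ((s : F) ^ 3)⁻¹ - s
  have hs0 : (s : F) ≠ 0 := s.ne_zero
  have hν : ν ≠ 0 := fun e' => hs4 (by
    simp only [ν] at e'
    field_simp at e'
    linear_combination -e')
  set k := e 0
  set c : ι → F := fun a => (g : Matrix ι ι F) a k
  set r : ι → F := fun b => ((g⁻¹ : GL ι F) : Matrix ι ι F) k b
  set y := g * dg (fun x => if x = k then (s ^ 3)⁻¹ else s) * g⁻¹ with hydef
  have hy : y ∈ X := X.mul_mem (X.mul_mem hg (hdiag _ (prod_torus hι k s))) (X.inv_mem hg)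
  obtain ⟨t, ht1, ht0, i, j, hij, hi, hj⟩ := exists_torus hq (fun b => ν / s * (r (e b) * c (e b))) fun b =>
    mul_ne_zero (div_ne_zero hν hs0) (mul_ne_zero (hfull _ (X.inv_mem hg) (Mon.of_inv hnm) _ _) (hfull g hg hnm _ _))
  set T : ι → Fˣ := t ∘ e.symm
  have hT : ∏ x, T x = 1 := by rw [← ht1]; exact e.symm.prod_comp t
  have hG : y * dg T * g ∈ X := X.mul_mem (X.mul_mem hy (hdiag T hT)) hg
  have hval : ∀ a : Fin 4, ((y * dg T * g : GL ι F) : Matrix ι ι F) (e a) k =
      (s : F) * c (e a) * ((t a : F) - t 0) := fun a => by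
    rw [Units.val_mul, Units.val_mul, Matrix.mul_apply, ← e.sum_comp]
    simp only [coe_dg, Matrix.mul_diagonal]
    rw [Finset.sum_congr rfl fun b _ => show (y : Matrix ι ι F) (e a) (e b) * (T (e b) : F) * c (e b) =
      (if a = b then (s : F) * t b * c (e b) else 0) + c (e a) * (s * (ν / s * (r (e b) * c (e b)) * t b)) by
        rw [hydef, conj_torus]
        simp only [c, r, ν, EmbeddingLike.apply_eq_iff_eq, T, Function.comp_apply, Equiv.symm_apply_apply]
        split_ifs <;> field_simp <;> ring,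
      Finset.sum_add_distrib, Finset.sum_ite_eq, if_pos (Finset.mem_univ a), ← Finset.mul_sum, ← Finset.mul_sum]
    linear_combination ((s : F) * c (e a)) * ht0
  have hGm : ¬ Mon (y * dg T * g) := fun ⟨σ, hσ⟩ => by
    have hne : ∀ a, t a ≠ t 0 → ((y * dg T * g : GL ι F) : Matrix ι ι F) (e a) k ≠ 0 := fun a ha => by
      rw [hval]
      exact mul_ne_zero (mul_ne_zero hs0 (hfull g hg hnm _ _)) (sub_ne_zero.2 fun h => ha (Units.ext h))
    have h1 : e i = σ k := by_contra fun h => hne i hi (hσ _ _ h)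
    have h2 : e j = σ k := by_contra fun h => hne j hj (hσ _ _ h)
    exact hij (e.injective (h1.trans h2.symm))
  exact hfull _ hG hGm (e 0) k (by rw [hval, sub_self, mul_zero])

omit ι in
theorem isMaximalIn_monomial (hq : 7 ≤ Fintype.card F) {D : Fin 4 → Submodule F (Fin 4 → F)}
    (hD : Cfsg.Geo.IsMDecomposition 1 D) :
    Cfsg.Geo.IsMaximalIn (Cfsg.Geo.specialLinear (Fin 4) F)
      (Cfsg.Geo.decompositionStabilizer D ⊓ Cfsg.Geo.specialLinear (Fin 4) F) := by
  classical
  obtain ⟨b, hb⟩ := exists_adapted_basis hD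
  refine ⟨lt_of_le_of_ne inf_le_right fun e => ?_, fun M hHM hMK => ?_⟩
  · let p : Fin 4 × Fin 1 := (0, 0)
    let q : Fin 4 × Fin 1 := (1, 0)
    have hpq : p ≠ q := by decide
    have hd : (Pi.single q 1 : Fin 4 × Fin 1 → F) ⬝ᵥ Pi.single p 1 = 0 := by simp [hpq.symm]
    set x := (toCoords b).symm (transvectionGL (Pi.single q 1) (Pi.single p 1) hd)
    have hx : x ∈ Cfsg.Geo.specialLinear (Fin 4) F := by
      rw [← toCoords_mem b, MulEquiv.apply_symm_apply]
      exact transvectionGL_mem_specialLinear _ _ _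
    rw [← e] at hx
    have := (mem_stabilizer_iff hD b hb x).1 hx.1
    rw [MulEquiv.apply_symm_apply] at this
    obtain ⟨σ, hσ⟩ := this
    have hval : ∀ a c, ((transvectionGL (Pi.single q 1) (Pi.single p 1) hd : GL (Fin 4 × Fin 1) F) :
        Matrix (Fin 4 × Fin 1) (Fin 4 × Fin 1) F) a c =
        (1 : Matrix (Fin 4 × Fin 1) (Fin 4 × Fin 1) F) a c + (Pi.single p 1 : Fin 4 × Fin 1 → F) a *
          (Pi.single q 1 : Fin 4 × Fin 1 → F) c := fun a c => rfl
    have hne : p.1 ≠ q.1 := by decide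
    by_cases hp : p.1 = σ q.1
    · have := hσ q q (fun e' => hne (hp.trans e'.symm))
      rw [hval] at this
      simp [hpq.symm] at this
    · have := hσ p q hp
      rw [hval] at this
      simp [hpq] at this
  by_cases hM : M ≤ Cfsg.Geo.decompositionStabilizer D
  · exact Or.inl (le_antisymm (le_inf hM hMK) hHM)
  right
  obtain ⟨g, hg, hgD⟩ := SetLike.not_le_iff_exists.1 hM
  refine le_antisymm hMK fun x hx => ?_
  have hblk : ∀ y : GL (Fin 4 × Fin 1) F, y ∈ Cfsg.Geo.specialLinear (Fin 4 × Fin 1) F → Blk y →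
      y ∈ M.map (toCoords b).toMonoidHom := fun y hy hyB =>
    ⟨(toCoords b).symm y, hHM ⟨(mem_stabilizer_iff hD b hb _).2 (by rwa [MulEquiv.apply_symm_apply]),
      (toCoords_mem b _).1 (by rwa [MulEquiv.apply_symm_apply])⟩, (toCoords b).apply_symm_apply y⟩
  have hsub : ∀ p q : Fin 4 × Fin 1, p.1 = q.1 → p = q := fun p q h => Prod.ext h (Subsingleton.elim _ _)
  have hblk' : ∀ z : GL (Fin 4 × Fin 1) F, Mon z → Blk z := fun z ⟨π, hπ⟩ => by
    refine ⟨(Equiv.prodUnique (Fin 4) (Fin 1)).symm.trans (π.trans (Equiv.prodUnique (Fin 4) (Fin 1))),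
      fun p q hpq => hπ p q fun e => hpq ?_⟩
    rw [e]
    show (π q).1 = (π ((Equiv.prodUnique (Fin 4) (Fin 1)).symm q.1)).1
    rw [show (Equiv.prodUnique (Fin 4) (Fin 1)).symm q.1 = q from hsub _ _ rfl]
  have hdiag' : ∀ d : Fin 4 × Fin 1 → Fˣ, ∏ x, d x = 1 → dg d ∈ M.map (toCoords b).toMonoidHom := fun d hd =>
    hblk _ (MonoidHom.mem_ker.2 (Units.ext (by
      rw [Matrix.GeneralLinearGroup.val_det_apply, det_dg, ← Units.coe_prod, hd]))) (blk_of_diag d)
  have hperm' : ∀ π : Equiv.Perm (Fin 4 × Fin 1), ∃ w ∈ M.map (toCoords b).toMonoidHom,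
      ∀ i j, i ≠ π j → ((w : GL (Fin 4 × Fin 1) F) : Matrix (Fin 4 × Fin 1) (Fin 4 × Fin 1) F) i j = 0 := fun π => by
    obtain ⟨w, hw, hwπ⟩ := BlockDecomp.exists_perm (F := F) π
    exact ⟨w, hblk w hw (hblk' w ⟨π, hwπ⟩), hwπ⟩
  have hX : M.map (toCoords b).toMonoidHom ≤ Cfsg.Geo.specialLinear (Fin 4 × Fin 1) F := by
    rintro _ ⟨z, hz, rfl⟩
    exact (toCoords_mem b z).2 (hMK hz)
  have hι : Fintype.card (Fin 4 × Fin 1) = 4 := by simp
  have hle := Monomial.specialLinear_le_of_fix (by rw [Nat.card_eq_fintype_card]; omega) hι.ge hdiag' hperm' hX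
    (exists_fix hq hι hdiag' hperm' (Subgroup.mem_map_of_mem _ hg)
      (fun h => hgD ((mem_stabilizer_iff hD b hb g).2 (hblk' _ h))))
  obtain ⟨y, hy, e⟩ := hle ((toCoords_mem b x).2 hx)
  rwa [← (toCoords b).injective e]

end CfsgLib.Geo.SLFour
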