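import Cfsg.Agent.Lib.Geo.SLFour.KleinFrame
import Cfsg.Agent.Lib.Geo.SympNorm.Apply
import Cfsg.Agent.Lib.Geo.SympNorm.Four
import Cfsg.Agent.Lib.Geo.Asch.LinearMax
import Cfsg.Agent.Lib.Geo.OrthSubfieldGL

/-!
# Normalisers of symplectic-type groups of order 64 are maximal in `SL₄(p)`

A spanning group with scalar squares is conjugate to the standard Pauli group with scalars.
-/

set_option autoImplicit false
set_option maxHeartbeats 1000000

namespace CfsgLib.Geo.SLFour.Klein

open Matrix Cfsg.Geo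
open CfsgLib.Geo.SympNorm (Ac PC IsSymp commute_scalar commute_of_ac_ac sc sc_mem)

variable {F : Type*} [Field F]

local notation "M4" => Matrix (Fin 4) (Fin 4) F
local notation "G4" => GL (Fin 4) F

/-- Two anticommuting pairs of commuting involutions. -/
structure Quad (R : Subgroup G4) (a b c d : G4) : Prop where
  ma : a ∈ R
  mb : b ∈ R
  mc : c ∈ R
  md : d ∈ R
  sa : a * a = 1
  sb : b * b = 1
  sc' : c * c = 1
  sd : d * d = 1
  ab : Ac a b
  cd : Ac c d
  ac : Commute a c
  ad : Commute a d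
  bc : Commute b c
  bd : Commute b d

theorem exists_quad {R : Subgroup G4} (h : IsSymp R) : ∃ a b c d, Quad R a b c d := by
  obtain ⟨r, hr, s, -, hrs, -, -⟩ := h.exists_pair (by simp)
  obtain ⟨k, hk, sa⟩ := h.exists_sq_one hr
  set a := k * r
  have ma : a ∈ R := mul_mem (h.scal hk) hr
  have ha : a ∉ scalars (Fin 4) F := fun e => (h.not_ac_scalar hrs).1 (by
    have := mul_mem (inv_mem hk) e; rwa [inv_mul_cancel_left] at this)
  obtain ⟨b, mb, sb, ab⟩ := h.exists_partner ma ha
  obtain ⟨t, ht, ht1, hta, htb⟩ := h.toIsPre.exists_commute_pair (by simp) ma mb ab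
  obtain ⟨l, hl, sc2⟩ := h.exists_sq_one ht
  set c := l * t
  have mc : c ∈ R := mul_mem (h.scal hl) ht
  have hc : c ∉ scalars (Fin 4) F := fun e => ht1 (by
    have := mul_mem (inv_mem hl) e; rwa [inv_mul_cancel_left] at this)
  have ac : Commute a c := ((commute_scalar hl a).mul_left hta).symm
  have bc : Commute b c := ((commute_scalar hl b).mul_left htb).symm
  obtain ⟨d₀, md₀, -, cd₀⟩ := h.exists_partner mc hc
  obtain ⟨d₁, md₁, cd₁, ad₁⟩ : ∃ x ∈ R, Ac c x ∧ Commute a x := by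
    rcases h.sign a ma d₀ md₀ with e | e
    · exact ⟨d₀, md₀, cd₀, e⟩
    · exact ⟨d₀ * b, mul_mem md₀ mb, cd₀.mul_right bc.symm, commute_of_ac_ac e ab⟩
  obtain ⟨d₂, md₂, cd₂, ad₂, bd₂⟩ : ∃ x ∈ R, Ac c x ∧ Commute a x ∧ Commute b x := by
    rcases h.sign b mb d₁ md₁ with e | e
    · exact ⟨d₁, md₁, cd₁, ad₁, e⟩
    · exact ⟨d₁ * a, mul_mem md₁ ma, cd₁.mul_right ac.symm, ad₁.mul_right (Commute.refl a),
        commute_of_ac_ac e ab.symm⟩
  obtain ⟨m, hm, sd⟩ := h.exists_sq_one md₂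
  exact ⟨a, b, c, m * d₂, ma, mb, mc, mul_mem (h.scal hm) md₂, sa, sb, sc2, sd, ab,
    Ac.mul_right' (commute_scalar hm c).symm cd₂, ac, (commute_scalar hm a).symm.mul_right ad₂, bc,
    (commute_scalar hm b).symm.mul_right bd₂⟩

/-- The standard first diagonal involution. -/
def stA : M4 := !![1, 0, 0, 0; 0, -1, 0, 0; 0, 0, 1, 0; 0, 0, 0, -1]
/-- The standard first permutation involution. -/
def stB : M4 := !![0, 1, 0, 0; 1, 0, 0, 0; 0, 0, 0, 1; 0, 0, 1, 0]
/-- The standard second diagonal involution. -/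
def stC : M4 := !![1, 0, 0, 0; 0, 1, 0, 0; 0, 0, -1, 0; 0, 0, 0, -1]
/-- The standard second permutation involution. -/
def stD : M4 := !![0, 0, 1, 0; 0, 0, 0, 1; 1, 0, 0, 0; 0, 1, 0, 0]

theorem exists_basis {R : Subgroup G4} (h : IsSymp R) {a b c d : G4} (q : Quad R a b c d) :
    ∃ P : G4, (↑(P⁻¹ * a * P) : M4) = stA ∧ (↑(P⁻¹ * b * P) : M4) = stB ∧ (↑(P⁻¹ * c * P) : M4) = stC ∧
      (↑(P⁻¹ * d * P) : M4) = stD := by
  set A : M4 := (a : M4) with hA
  set B : M4 := (b : M4) with hB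
  set C : M4 := (c : M4) with hC
  set D : M4 := (d : M4) with hD
  have AA : A * A = 1 := congrArg Units.val q.sa
  have BB : B * B = 1 := congrArg Units.val q.sb
  have CC : C * C = 1 := congrArg Units.val q.sc'
  have DD : D * D = 1 := congrArg Units.val q.sd
  have AB : A * B = -(B * A) := congrArg Units.val q.ab
  have CD : C * D = -(D * C) := congrArg Units.val q.cd
  have AC : A * C = C * A := congrArg Units.val q.ac.eq
  have AD : A * D = D * A := congrArg Units.val q.ad.eq
  have BC : B * C = C * B := congrArg Units.val q.bc.eq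
  have BD : B * D = D * B := congrArg Units.val q.bd.eq
  have hE : (1 + A) * (1 + C) ≠ 0 := by
    intro e
    have e2 : (1 - A) * (1 + C) = 0 := by
      have hb1 : B * (1 + A) = (1 - A) * B := by rw [mul_add, sub_mul, AB, mul_one, one_mul]; abel
      have hb2 : B * (1 + C) = (1 + C) * B := by rw [mul_add, add_mul, BC, mul_one, one_mul]
      calc (1 - A) * (1 + C) = (1 - A) * (1 + C) * (B * B) := by rw [BB, mul_one]
        _ = B * ((1 + A) * (1 + C)) * B := by
            rw [← mul_assoc, mul_assoc (1 - A), ← hb2, ← mul_assoc (1 - A), ← hb1, mul_assoc B]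
        _ = 0 := by rw [e, mul_zero, zero_mul]
    have e3 : (2 : F) • (1 + C) = 0 := by
      calc (2 : F) • (1 + C) = (1 + A) * (1 + C) + (1 - A) * (1 + C) := by
            rw [← add_mul, add_add_sub_cancel, two_smul, add_mul, one_mul]
        _ = 0 := by rw [e, e2, add_zero]
    have hc1 : c = -1 := Units.ext (eq_neg_of_add_eq_zero_right ((smul_eq_zero.1 e3).resolve_left h.two))
    exact (h.not_ac_scalar q.cd).1 (hc1 ▸ CfsgLib.Geo.SympNorm.neg_mem_scalars (one_mem _))
  obtain ⟨w, hw⟩ : ∃ w, ((1 + A) * (1 + C)) *ᵥ w ≠ 0 := by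
    by_contra! hh
    refine hE (Matrix.toLin'.injective (LinearMap.ext fun w => ?_))
    rw [Matrix.toLin'_apply, hh w, map_zero, LinearMap.zero_apply]
  set v := ((1 + A) * (1 + C)) *ᵥ w with hv
  have Av : A *ᵥ v = v := by
    rw [hv, mulVec_mulVec, ← mul_assoc, show A * (1 + A) = 1 + A by rw [mul_add, AA, mul_one, add_comm]]
  have Cv : C *ᵥ v = v := by
    rw [hv, mulVec_mulVec, ← mul_assoc, show C * (1 + A) = (1 + A) * C by rw [mul_add, add_mul, AC, mul_one, one_mul],
      mul_assoc, mul_add C, CC, mul_one, add_comm C 1]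
  let col : Fin 4 → (Fin 4 → F) := ![v, B *ᵥ v, D *ᵥ v, B *ᵥ D *ᵥ v]
  let P : M4 := (Matrix.of col)ᵀ
  have hP : ∀ x, P *ᵥ x = x 0 • v + x 1 • (B *ᵥ v) + x 2 • (D *ᵥ v) + x 3 • (B *ᵥ D *ᵥ v) := fun x => by
    funext r
    simp [P, col, Matrix.mulVec, dotProduct, Fin.sum_univ_succ]
    ring
  have fBv : A *ᵥ B *ᵥ v = -(B *ᵥ v) := by rw [mulVec_mulVec, AB, neg_mulVec, ← mulVec_mulVec, Av]
  have fDv : A *ᵥ D *ᵥ v = D *ᵥ v := by rw [mulVec_mulVec, AD, ← mulVec_mulVec, Av]
  have fBDv : A *ᵥ B *ᵥ D *ᵥ v = -(B *ᵥ D *ᵥ v) := by rw [mulVec_mulVec _ A B, AB, neg_mulVec, ← mulVec_mulVec, fDv]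
  have gBv : C *ᵥ B *ᵥ v = B *ᵥ v := by rw [mulVec_mulVec, ← BC, ← mulVec_mulVec, Cv]
  have gDv : C *ᵥ D *ᵥ v = -(D *ᵥ v) := by rw [mulVec_mulVec, CD, neg_mulVec, ← mulVec_mulVec, Cv]
  have gBDv : C *ᵥ B *ᵥ D *ᵥ v = -(B *ᵥ D *ᵥ v) := by rw [mulVec_mulVec _ C B, ← BC, ← mulVec_mulVec, gDv, mulVec_neg]
  have bB : B *ᵥ B *ᵥ v = v := by rw [mulVec_mulVec, BB, one_mulVec]
  have bBD : B *ᵥ B *ᵥ D *ᵥ v = D *ᵥ v := by rw [mulVec_mulVec _ B B, BB, one_mulVec]
  have dB : D *ᵥ B *ᵥ v = B *ᵥ D *ᵥ v := by rw [mulVec_mulVec, ← BD, ← mulVec_mulVec]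
  have dD : D *ᵥ D *ᵥ v = v := by rw [mulVec_mulVec, DD, one_mulVec]
  have dBD : D *ᵥ B *ᵥ D *ᵥ v = B *ᵥ v := by rw [mulVec_mulVec _ D B, ← BD, ← mulVec_mulVec, dD]
  have eA : A * P = P * stA := by
    refine Matrix.toLin'.injective (LinearMap.ext fun x => ?_)
    rw [Matrix.toLin'_apply, Matrix.toLin'_apply, ← mulVec_mulVec, ← mulVec_mulVec, hP, hP]
    rw [mulVec_add, mulVec_add, mulVec_add, mulVec_smul, mulVec_smul, mulVec_smul, mulVec_smul, Av, fBv, fDv, fBDv]
    simp [stA, Matrix.mulVec, dotProduct, Fin.sum_univ_succ]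
  have eB : B * P = P * stB := by
    refine Matrix.toLin'.injective (LinearMap.ext fun x => ?_)
    rw [Matrix.toLin'_apply, Matrix.toLin'_apply, ← mulVec_mulVec, ← mulVec_mulVec, hP, hP]
    rw [mulVec_add, mulVec_add, mulVec_add, mulVec_smul, mulVec_smul, mulVec_smul, mulVec_smul, bB, bBD]
    simp [stB, Matrix.mulVec, dotProduct, Fin.sum_univ_succ]
    abel
  have eC : C * P = P * stC := by
    refine Matrix.toLin'.injective (LinearMap.ext fun x => ?_)
    rw [Matrix.toLin'_apply, Matrix.toLin'_apply, ← mulVec_mulVec, ← mulVec_mulVec, hP, hP]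
    rw [mulVec_add, mulVec_add, mulVec_add, mulVec_smul, mulVec_smul, mulVec_smul, mulVec_smul, Cv, gBv, gDv, gBDv]
    simp [stC, Matrix.mulVec, dotProduct, Fin.sum_univ_succ]
  have eD : D * P = P * stD := by
    refine Matrix.toLin'.injective (LinearMap.ext fun x => ?_)
    rw [Matrix.toLin'_apply, Matrix.toLin'_apply, ← mulVec_mulVec, ← mulVec_mulVec, hP, hP]
    rw [mulVec_add, mulVec_add, mulVec_add, mulVec_smul, mulVec_smul, mulVec_smul, mulVec_smul, dB, dD, dBD]
    simp [stD, Matrix.mulVec, dotProduct, Fin.sum_univ_succ]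
    abel
  have hdet : P.det ≠ 0 := by
    intro hz
    obtain ⟨x, hx0, hx⟩ := Matrix.exists_mulVec_eq_zero_iff.2 hz
    have h1 : P *ᵥ (stA *ᵥ x) = 0 := by rw [mulVec_mulVec, ← eA, ← mulVec_mulVec, hx, mulVec_zero]
    have h2 : P *ᵥ (stC *ᵥ x) = 0 := by rw [mulVec_mulVec, ← eC, ← mulVec_mulVec, hx, mulVec_zero]
    have h3 : P *ᵥ (stC *ᵥ (stA *ᵥ x)) = 0 := by rw [mulVec_mulVec, ← eC, ← mulVec_mulVec, h1, mulVec_zero]
    rw [hP] at hx h1 h2 h3
    simp [stA, stC, Matrix.mulVec, dotProduct, Fin.sum_univ_succ] at h1 h2 h3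
    simp only [← mulVec_mulVec] at h1 h2 h3
    have four : (4 : F) ≠ 0 := by
      rw [show (4 : F) = 2 * 2 by norm_num]; exact mul_ne_zero h.two h.two
    have hBv : B *ᵥ v ≠ 0 := fun e => hw (by rw [← bB, e, mulVec_zero])
    have hDv : D *ᵥ v ≠ 0 := fun e => hw (by rw [← dD, e, mulVec_zero])
    have hBDv : B *ᵥ D *ᵥ v ≠ 0 := fun e => hDv (by rw [← bBD, e, mulVec_zero])
    have t0 : ((4 : F) * x 0) • v = 0 := by linear_combination (norm := module) hx + h1 + h2 + h3
    have t1 : ((4 : F) * x 1) • (B *ᵥ v) = 0 := by linear_combination (norm := module) hx - h1 + h2 - h3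
    have t2 : ((4 : F) * x 2) • (D *ᵥ v) = 0 := by linear_combination (norm := module) hx + h1 - h2 - h3
    have t3 : ((4 : F) * x 3) • (B *ᵥ D *ᵥ v) = 0 := by linear_combination (norm := module) hx - h1 - h2 + h3
    refine hx0 (funext fun j => ?_)
    fin_cases j
    · exact (mul_eq_zero.1 ((smul_eq_zero.1 t0).resolve_right hw)).resolve_left four
    · exact (mul_eq_zero.1 ((smul_eq_zero.1 t1).resolve_right hBv)).resolve_left four
    · exact (mul_eq_zero.1 ((smul_eq_zero.1 t2).resolve_right hDv)).resolve_left four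
    · exact (mul_eq_zero.1 ((smul_eq_zero.1 t3).resolve_right hBDv)).resolve_left four
  let Pu : G4 := Matrix.GeneralLinearGroup.mkOfDetNeZero P hdet
  have key : ∀ (g : G4) (S : M4), (g : M4) * P = P * S → (↑(Pu⁻¹ * g * Pu) : M4) = S := fun g S e => by
    rw [Units.val_mul, Units.val_mul, mul_assoc, show (Pu : M4) = P from rfl, e, ← mul_assoc,
      show P = (Pu : M4) from rfl, Units.inv_mul, one_mul]
  exact ⟨Pu, key a _ eA, key b _ eB, key c _ eC, key d _ eD⟩

theorem pauliR_eq {i : F} (hi : i * i = -1) {R : Subgroup G4} (h : IsSymp R) {a b c d P : G4} (q : Quad R a b c d)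
    (eA : (↑(P⁻¹ * a * P) : M4) = stA) (eB : (↑(P⁻¹ * b * P) : M4) = stB) (eC : (↑(P⁻¹ * c * P) : M4) = stC)
    (eD : (↑(P⁻¹ * d * P) : M4) = stD) :
    (pauliR hi).map (MulAut.conj P).toMonoidHom = R := by
  have hi0 : i ≠ 0 := by rintro rfl; simp at hi
  set a' := P⁻¹ * a * P with ha'
  set b' := P⁻¹ * b * P with hb'
  set c' := P⁻¹ * c * P with hc'
  set d' := P⁻¹ * d * P with hd'
  have u0 : (uS hi 0 : G4) = sc i hi0 * b' := Units.ext (by
    show pu i 0 = (i • (1 : M4)) * (b' : M4)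
    rw [eB, smul_mul_assoc, one_mul]; ext r s; fin_cases r <;> fin_cases s <;> simp [pu, stB])
  have u1 : (uS hi 1 : G4) = sc i hi0 * a' := Units.ext (by
    show pu i 1 = (i • (1 : M4)) * (a' : M4)
    rw [eA, smul_mul_assoc, one_mul]; ext r s; fin_cases r <;> fin_cases s <;> simp [pu, stA])
  have u2 : (uS hi 2 : G4) = sc i hi0 * (a' * b' * c' * d') := Units.ext (by
    show pu i 2 = (i • (1 : M4)) * ((a' : M4) * (b' : M4) * (c' : M4) * (d' : M4))
    rw [eA, eB, eC, eD, smul_mul_assoc, one_mul]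
    ext r s; fin_cases r <;> fin_cases s <;>
      simp [pu, stA, stB, stC, stD, Matrix.mul_apply, Fin.sum_univ_succ])
  have u3 : (uS hi 3 : G4) = a' * b' * c' := Units.ext (by
    show pu i 3 = (a' : M4) * (b' : M4) * (c' : M4)
    rw [eA, eB, eC]
    ext r s; fin_cases r <;> fin_cases s <;>
      simp [pu, stA, stB, stC, Matrix.mul_apply, Fin.sum_univ_succ])
  have u4 : (uS hi 4 : G4) = a' * b' * d' := Units.ext (by
    show pu i 4 = (a' : M4) * (b' : M4) * (d' : M4)
    rw [eA, eB, eD]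
    ext r s; fin_cases r <;> fin_cases s <;>
      simp [pu, stA, stB, stD, Matrix.mul_apply, Fin.sum_univ_succ])
  have hT : pauliR hi = R.comap (MulAut.conj P).toMonoidHom := by
    set T := R.comap (MulAut.conj P).toMonoidHom with hTdef
    have conjP : ∀ x : G4, P * (P⁻¹ * x * P) * P⁻¹ = x := fun x => by group
    have ta : a' ∈ T := by show P * a' * P⁻¹ ∈ R; rw [ha', conjP]; exact q.ma
    have tb : b' ∈ T := by show P * b' * P⁻¹ ∈ R; rw [hb', conjP]; exact q.mb
    have tc : c' ∈ T := by show P * c' * P⁻¹ ∈ R; rw [hc', conjP]; exact q.mc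
    have td : d' ∈ T := by show P * d' * P⁻¹ ∈ R; rw [hd', conjP]; exact q.md
    have tz : scalars (Fin 4) F ≤ T := fun z hz => by
      show P * z * P⁻¹ ∈ R
      rw [CfsgLib.Geo.SympNorm.scalar_conj hz]; exact h.scal hz
    have tsc := tz (sc_mem i hi0)
    have hu : ∀ k, (uS hi k : G4) ∈ T := by
      intro k
      fin_cases k
      · exact u0 ▸ mul_mem tsc tb
      · exact u1 ▸ mul_mem tsc ta
      · exact u2 ▸ mul_mem tsc (mul_mem (mul_mem (mul_mem ta tb) tc) td)
      · exact u3 ▸ mul_mem (mul_mem ta tb) tc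
      · exact u4 ▸ mul_mem (mul_mem ta tb) td
    have pz : ∀ {z : G4}, z ∈ scalars (Fin 4) F → z ∈ pauliR hi := fun hz => Subgroup.mem_sup_right hz
    have pa : a' ∈ pauliR hi := by
      have := mul_mem (inv_mem (pz (sc_mem i hi0))) (uS_mem_pauliR hi 1)
      rwa [u1, inv_mul_cancel_left] at this
    have pb : b' ∈ pauliR hi := by
      have := mul_mem (inv_mem (pz (sc_mem i hi0))) (uS_mem_pauliR hi 0)
      rwa [u0, inv_mul_cancel_left] at this
    have pc : c' ∈ pauliR hi := by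
      have := mul_mem (inv_mem (mul_mem pa pb)) (uS_mem_pauliR hi 3)
      rwa [u3, inv_mul_cancel_left] at this
    have pd : d' ∈ pauliR hi := by
      have := mul_mem (inv_mem (mul_mem pa pb)) (uS_mem_pauliR hi 4)
      rwa [u4, inv_mul_cancel_left] at this
    refine le_antisymm (sup_le ?_ tz) fun x hx => ?_
    · rw [Subgroup.map_le_iff_le_comap, pauliW, Subgroup.closure_le]
      rintro _ ⟨k, rfl⟩
      exact hu k
    · obtain ⟨y, hy, rfl⟩ : ∃ y ∈ R, x = P⁻¹ * y * P :=
        ⟨P * x * P⁻¹, hx, by group⟩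
      have fix : ∀ y ∈ R, ∀ u ∈ R, ∀ w ∈ R, Ac w u → ∀ S : Subgroup G4, w ∈ S →
          ∃ k ∈ R ⊓ S, Commute (y * k) u ∧ (k = 1 ∨ k = w) := by
        intro y hy u hu w hw hwu S hwS
        rcases h.sign y hy u hu with e | e
        · exact ⟨1, one_mem _, by rwa [mul_one], Or.inl rfl⟩
        · exact ⟨w, ⟨hw, hwS⟩, (commute_of_ac_ac e.symm hwu.symm).symm, Or.inr rfl⟩
      have keep : ∀ {y k u w : G4}, Commute y u → Commute w u → (k = 1 ∨ k = w) → Commute (y * k) u := by
        intro y k u w h1 h2 hk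
        rcases hk with rfl | rfl
        · rwa [mul_one]
        · exact h1.mul_left h2
      set S := (pauliR hi).map (MulAut.conj P).toMonoidHom with hS
      have inS : ∀ {g : G4}, P⁻¹ * g * P ∈ pauliR hi → g ∈ S := fun {g} hg => ⟨_, hg, conjP g⟩
      obtain ⟨k1, hk1, c1, e1⟩ := fix y hy a q.ma b q.mb q.ab.symm S (inS pb)
      have hy1 := mul_mem hy hk1.1
      obtain ⟨k2, hk2, c2, e2⟩ := fix _ hy1 b q.mb a q.ma q.ab S (inS pa)
      have c2a := keep c1 (Commute.refl a) e2
      have hy2 := mul_mem hy1 hk2.1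
      obtain ⟨k3, hk3, c3, e3⟩ := fix _ hy2 c q.mc d q.md q.cd.symm S (inS pd)
      have c3a := keep c2a q.ad.symm e3
      have c3b := keep c2 q.bd.symm e3
      have hy3 := mul_mem hy2 hk3.1
      obtain ⟨k4, hk4, c4, e4⟩ := fix _ hy3 d q.md c q.mc q.cd S (inS pc)
      have c4a := keep c3a q.ac.symm e4
      have c4b := keep c3b q.bc.symm e4
      have c4c := keep c3 (Commute.refl c) e4
      set z := y * k1 * k2 * k3 * k4 with hz
      set Z : M4 := (↑(P⁻¹ * z * P) : M4) with hZ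
      have com : ∀ {g : G4} {M : M4}, Commute z g → (↑(P⁻¹ * g * P) : M4) = M → Z * M = M * Z := by
        intro g M hg e
        rw [hZ, ← e, ← Units.val_mul, ← Units.val_mul,
          show P⁻¹ * z * P * (P⁻¹ * g * P) = P⁻¹ * (z * g) * P by group, hg.eq]
        congr 1
        group
      have CA := com c4a eA
      have CB := com c4b eB
      have CC := com c4c eC
      have CD := com c4 eD
      have q2 : ∀ t : F, t = -t → t = 0 := fun t e =>
        (mul_eq_zero.1 (show (2 : F) * t = 0 by linear_combination e)).resolve_left h.two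
      have ea : ∀ r s : Fin 4, ![(1 : F), -1, 1, -1] r * Z r s = Z r s * ![(1 : F), -1, 1, -1] s := fun r s => by
        have e : (stA : M4) = Matrix.diagonal ![(1 : F), -1, 1, -1] := by
          ext r s; fin_cases r <;> fin_cases s <;> simp [stA]
        have := congrFun (congrFun CA r) s
        rw [e, Matrix.mul_diagonal, Matrix.diagonal_mul] at this
        exact this.symm
      have ec : ∀ r s : Fin 4, ![(1 : F), 1, -1, -1] r * Z r s = Z r s * ![(1 : F), 1, -1, -1] s := fun r s => by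
        have e : (stC : M4) = Matrix.diagonal ![(1 : F), 1, -1, -1] := by
          ext r s; fin_cases r <;> fin_cases s <;> simp [stC]
        have := congrFun (congrFun CC r) s
        rw [e, Matrix.mul_diagonal, Matrix.diagonal_mul] at this
        exact this.symm
      have hdiag : ∀ r s : Fin 4, r ≠ s → Z r s = 0 := fun r s hrs => by
        have h1 := ea r s
        have h2 := ec r s
        fin_cases r <;> fin_cases s <;> simp at hrs h1 h2 <;>
          first
            | exact q2 _ h1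
            | exact q2 _ h2
            | exact q2 _ h1.symm
            | exact q2 _ h2.symm
      have b01 : Z 0 0 = Z 1 1 := by
        have := congrFun (congrFun CB 0) 1
        simpa [stB, Matrix.mul_apply, Fin.sum_univ_succ] using this
      have b23 : Z 2 2 = Z 3 3 := by
        have := congrFun (congrFun CB 2) 3
        simpa [stB, Matrix.mul_apply, Fin.sum_univ_succ] using this
      have d02 : Z 0 0 = Z 2 2 := by
        have := congrFun (congrFun CD 0) 2
        simpa [stD, Matrix.mul_apply, Fin.sum_univ_succ] using this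
      have hZs : Z = Z 0 0 • (1 : M4) := by
        ext r s
        rcases eq_or_ne r s with rfl | hrs
        · fin_cases r <;> simp [← b01, ← d02, ← b23]
        · simp [hdiag r s hrs, Matrix.one_apply_ne hrs]
      have hne : Z 0 0 ≠ 0 := fun e => by
        rw [e, zero_smul] at hZs
        exact (P⁻¹ * z * P).ne_zero hZs
      have hzP : P⁻¹ * z * P ∈ pauliR hi := pz ((mem_scalars_iff _).2 ⟨Units.mk0 _ hne, hZs⟩)
      have hzS : z ∈ S := inS hzP
      have hyS : y ∈ S := by
        have := mul_mem (mul_mem (mul_mem (mul_mem hzS (inv_mem hk4.2)) (inv_mem hk3.2)) (inv_mem hk2.2))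
          (inv_mem hk1.2)
        rwa [hz, mul_inv_cancel_right, mul_inv_cancel_right, mul_inv_cancel_right, mul_inv_cancel_right] at this
      obtain ⟨g, hg, e⟩ := hyS
      rwa [← e, show P⁻¹ * (MulAut.conj P).toMonoidHom g * P = g by
        show P⁻¹ * (P * g * P⁻¹) * P = g
        group]
  rw [hT, Subgroup.map_comap_eq_self_of_surjective (MulAut.conj P).surjective]

/-- Maximality of the normaliser in dimension four. -/
theorem isMaximalIn_sympType [Fintype F] {p : ℕ} (hp : p.Prime) (hF : Fintype.card F = p) (h4 : p % 4 = 1)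
    {R : Subgroup G4} (hR : IsLinearSymplecticTypeData 2 R) :
    Cfsg.Geo.IsMaximalIn (specialLinear (Fin 4) F) (subgroupNormalizer R ⊓ specialLinear (Fin 4) F) := by
  classical
  haveI := Fact.mk hp
  haveI : CharP F p := charP_of_card_eq_prime hF
  have hp5 : 5 ≤ p := by have := hp.two_le; omega
  have h2 : (2 : F) ≠ 0 := fun e => by
    have h' : ((2 : ℕ) : F) = 0 := by exact_mod_cast e
    rw [CharP.cast_eq_zero_iff F p] at h'
    have := Nat.le_of_dvd two_pos h'
    omega
  obtain ⟨i, hi⟩ : ∃ i : F, i * i = -1 := by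
    obtain ⟨i, hi⟩ : IsSquare (-1 : F) := FiniteField.isSquare_neg_one_iff.2 (by rw [hF]; omega)
    exact ⟨i, hi.symm⟩
  have hnF : (Fintype.card (Fin 4) : F) ≠ 0 := by
    rw [Fintype.card_fin, show ((4 : ℕ) : F) = 2 * 2 by norm_num]
    exact mul_ne_zero h2 h2
  have h2c : 2 ≤ Fintype.card (Fin 4) := by simp
  have hZ : Nat.card (Subgroup.center R) = 4 := by
    obtain ⟨q, e, -, -, h | h | h⟩ := hR.field
    · exact absurd h.1 (by decide)
    · exact h.2.2.1
    · obtain ⟨-, -, hc, -⟩ := h; simp at hc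
  have h : IsSymp (R ⊔ scalars (Fin 4) F) :=
    SympNorm.isSymp_of_type h2 hnF h2c ⟨i, hi⟩ hR.symplecticType hR.absIrred
  have hN := SympNorm.normalizer_sup_scalars h2 h2c hR.symplecticType hR.absIrred hZ
  obtain ⟨a, b, c, d, q⟩ := exists_quad h
  obtain ⟨P, eA, eB, eC, eD⟩ := exists_basis h q
  have hmap := pauliR_eq hi h q eA eB eC eD
  have hNmap : (subgroupNormalizer (pauliR hi)).map (MulAut.conj P).toMonoidHom = subgroupNormalizer R := by
    rw [← hN, ← hmap]
    exact Subgroup.map_equiv_normalizer_eq _ (MulAut.conj P)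
  have hS : (specialLinear (Fin 4) F).map (MulAut.conj P).toMonoidHom = specialLinear (Fin 4) F := by
    haveI : (specialLinear (Fin 4) F).Normal := MonoidHom.normal_ker _
    refine le_antisymm (Subgroup.map_le_iff_le_comap.2 fun g hg => ‹(specialLinear (Fin 4) F).Normal›.conj_mem g hg P)
      fun g hg => ⟨P⁻¹ * g * P, ?_, ?_⟩
    · simpa using ‹(specialLinear (Fin 4) F).Normal›.conj_mem g hg P⁻¹
    · show P * (P⁻¹ * g * P) * P⁻¹ = g
      group
  have hne : ¬ specialLinear (Fin 4) F ≤ subgroupNormalizer (pauliR hi) := fun hle =>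
    CfsgLib.Geo.Asch.not_le_symplecticNormalizer (by simp) hR
      (hS.ge.trans ((Subgroup.map_mono hle).trans hNmap.le))
  have hM := CfsgLib.Geo.OrthSub.isMaximalIn_map (MulAut.conj P) (isMaximalIn_pauli hi h2 hF hp5 hne)
  rwa [hS, Subgroup.map_inf _ _ _ (MulAut.conj P).injective, hNmap, hS] at hM

end CfsgLib.Geo.SLFour.Klein
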