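/-
The stabiliser of a decomposition of a four-dimensional space into two planes is maximal in SL(4).
-/
import Cfsg.Agent.Lib.Geo.BlockDecompFinal

set_option autoImplicit false

namespace CfsgLib.Geo.SLFour

open Matrix Monomial Module CfsgLib.Geo.BlockDecomp

variable {F : Type*} [Field F]

theorem exists_sq_ne_one [Fintype F] (hq : 4 ≤ Fintype.card F) : ∃ α : Fˣ, (α : F) ^ 2 ≠ 1 := by
  classical
  obtain ⟨α, -, hα⟩ := Finset.exists_mem_notMem_of_card_lt_card (s := ({0, 1, -1} : Finset F)) (t := Finset.univ)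
    (lt_of_le_of_lt Finset.card_le_three (by rw [Finset.card_univ]; omega))
  simp only [Finset.mem_insert, Finset.mem_singleton, not_or] at hα
  refine ⟨Units.mk0 α hα.1, fun e => ?_⟩
  have e' : (α - 1) * (α + 1) = 0 := by
    rw [Units.val_mk0] at e
    linear_combination e
  rcases mul_eq_zero.1 e' with h | h
  · exact hα.2.1 (sub_eq_zero.1 h)
  · exact hα.2.2 (eq_neg_of_add_eq_zero_left h)

theorem isMaximalIn_planes [Fintype F] (hq : 4 ≤ Fintype.card F) {D : Fin 2 → Submodule F (Fin 4 → F)}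
    (hD : Cfsg.Geo.IsMDecomposition 2 D) :
    Cfsg.Geo.IsMaximalIn (Cfsg.Geo.specialLinear (Fin 4) F)
      (Cfsg.Geo.decompositionStabilizer D ⊓ Cfsg.Geo.specialLinear (Fin 4) F) := by
  classical
  obtain ⟨b, hb⟩ := exists_adapted_basis hD
  obtain ⟨α, hα⟩ := exists_sq_ne_one hq
  refine ⟨lt_of_le_of_ne inf_le_right fun e => ?_, fun M hHM hMK => ?_⟩
  · let p : Fin 2 × Fin 2 := (0, 0)
    let q : Fin 2 × Fin 2 := (1, 0)
    have hpq : p ≠ q := by decide
    have hd : (Pi.single q 1 : Fin 2 × Fin 2 → F) ⬝ᵥ Pi.single p 1 = 0 := by simp [hpq.symm]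
    set x := (toCoords b).symm (transvectionGL (Pi.single q 1) (Pi.single p 1) hd)
    have hx : x ∈ Cfsg.Geo.specialLinear (Fin 4) F := by
      rw [← toCoords_mem b, MulEquiv.apply_symm_apply]
      exact transvectionGL_mem_specialLinear _ _ _
    rw [← e] at hx
    have := (mem_stabilizer_iff hD b hb x).1 hx.1
    rw [MulEquiv.apply_symm_apply] at this
    obtain ⟨σ, hσ⟩ := this
    have hval : ∀ a c, ((transvectionGL (Pi.single q 1) (Pi.single p 1) hd : GL (Fin 2 × Fin 2) F) :
        Matrix (Fin 2 × Fin 2) (Fin 2 × Fin 2) F) a c =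
        (1 : Matrix (Fin 2 × Fin 2) (Fin 2 × Fin 2) F) a c + (Pi.single p 1 : Fin 2 × Fin 2 → F) a *
          (Pi.single q 1 : Fin 2 × Fin 2 → F) c := fun a c => rfl
    have hne : p.1 ≠ q.1 := by decide
    by_cases hp : p.1 = σ q.1
    · have := hσ q q (fun e' => hne (hp.trans e'.symm))
      rw [hval] at this
      simp [hpq.symm] at this
    · have := hσ p q hp
      rw [hval] at this
      simp [hpq] at this
  by_cases hM : M ≤ Cfsg.Geo.decompositionStabilizer D
  · exact Or.inl (le_antisymm (le_inf hM hMK) hHM)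
  right
  obtain ⟨g, hg, hgD⟩ := SetLike.not_le_iff_exists.1 hM
  refine le_antisymm hMK fun x hx => ?_
  have hle := specialLinear_le_two (X := M.map (toCoords b).toMonoidHom)
    (fun y hy hyB => ⟨(toCoords b).symm y, hHM ⟨(mem_stabilizer_iff hD b hb _).2 (by rwa [MulEquiv.apply_symm_apply]),
      (toCoords_mem b _).1 (by rwa [MulEquiv.apply_symm_apply])⟩, (toCoords b).apply_symm_apply y⟩)
    le_rfl (Or.inr ⟨rfl, α, hα⟩) (fun _ => ⟨α, fun e => hα (by rw [e, Units.val_one, one_pow])⟩)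
    (Subgroup.mem_map_of_mem _ hg) (fun h => hgD ((mem_stabilizer_iff hD b hb g).2 h))
  obtain ⟨y, hy, e⟩ := hle ((toCoords_mem b x).2 hx)
  rwa [← (toCoords b).injective e]

end CfsgLib.Geo.SLFour
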