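/-
Singular vectors and Siegel elements of a non-degenerate quadratic form in four variables.
-/
import Cfsg.Agent.Lib.Geo.QuadSimilitude

set_option autoImplicit false

namespace CfsgLib.Geo.SLFour.Quad

open Matrix CfsgLib.Classical CfsgLib.Classical.Quad CfsgLib.Geo.Roots CfsgLib.Geo.OrthMax CfsgLib.Geo.QuadSim
open QuadraticMap (polar polarBilin)

variable {ι : Type} [Fintype ι] [DecidableEq ι] {F : Type*} [Field F] {Q : QuadraticForm F (ι → F)}

theorem polar_self_two (v : ι → F) : polar ⇑Q v v = 2 * Q v := by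
  rw [QuadraticMap.polar_self, nsmul_eq_mul, Nat.cast_ofNat]

theorem polar_self_zero {v : ι → F} (hv : Q v = 0) : polar ⇑Q v v = 0 := by
  rw [polar_self_two, hv, mul_zero]

variable (hQ : (polarBilin Q).Nondegenerate)
include hQ

theorem exists_mate {w : ι → F} (hw : Q w = 0) (hw0 : w ≠ 0) : ∃ f, Q f = 0 ∧ polar ⇑Q w f = 1 := by
  have hnd : Nondeg Q (⊤ : Submodule F (ι → F)) := fun x _ h => hQ.1 x fun y => h y trivial
  obtain ⟨f, -, hf, hwf⟩ := hnd.exists_pair Submodule.mem_top hw hw0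
  exact ⟨f, hf, hwf⟩

theorem exists_singular [Finite F] (hι : Fintype.card ι = 4) : ∃ w, Q w = 0 ∧ w ≠ 0 := by
  obtain ⟨e, -, f, -, hqe, -, hef⟩ := exists_hyp hQ (L := ⊤) (by rw [finrank_top, Module.finrank_pi]; omega)
  exact ⟨e, hqe, fun h0 => one_ne_zero (α := F) (by rw [← hef, h0, QuadraticMap.polar_zero_left])⟩

omit hQ in
/-- The complement of a hyperbolic pair. -/
def comp (Q : QuadraticForm F (ι → F)) (w f : ι → F) : Submodule F (ι → F) := cut (cut ⊤ Q w) Q f

omit hQ in
theorem mem_comp {w f z : ι → F} : z ∈ comp Q w f ↔ polar ⇑Q w z = 0 ∧ polar ⇑Q f z = 0 :=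
  ⟨fun h => ⟨h.1.2, h.2⟩, fun h => ⟨⟨trivial, h.1⟩, h.2⟩⟩

omit hQ in
theorem two_le_finrank_comp (hι : Fintype.card ι = 4) (w f : ι → F) : 2 ≤ Module.finrank F (comp Q w f) := by
  have h1 := finrank_cut (Q := Q) (⊤ : Submodule F (ι → F)) w
  have h2 : Module.finrank F (cut ⊤ Q w) ≤ Module.finrank F (comp Q w f) + 1 := finrank_cut _ f
  rw [finrank_top, Module.finrank_pi, hι] at h1
  omega

omit hQ in
theorem sub_mem_comp {w f : ι → F} (hw : Q w = 0) (hf : Q f = 0) (hwf : polar ⇑Q w f = 1) (x : ι → F) :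
    x - polar ⇑Q x f • w - polar ⇑Q x w • f ∈ comp Q w f := by
  rw [mem_comp]
  simp only [QuadraticMap.polar_sub_right, polar_smul_right', polar_self_zero hw, polar_self_zero hf, hwf,
    QuadraticMap.polar_comm (⇑Q) f w, QuadraticMap.polar_comm (⇑Q) w x, QuadraticMap.polar_comm (⇑Q) f x]
  constructor <;> ring

theorem nondeg_comp {w f : ι → F} (hw : Q w = 0) (hf : Q f = 0) (hwf : polar ⇑Q w f = 1) :
    Nondeg Q (comp Q w f) := by
  intro z hz h
  obtain ⟨hzw, hzf⟩ := mem_comp.1 hz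
  refine hQ.1 z fun x => ?_
  have h1 := h _ (sub_mem_comp hw hf hwf x)
  rw [QuadraticMap.polar_sub_right, QuadraticMap.polar_sub_right, polar_smul_right', polar_smul_right',
    QuadraticMap.polar_comm (⇑Q) z w, hzw, QuadraticMap.polar_comm (⇑Q) z f, hzf] at h1
  simpa using h1

theorem exists_comp_value [Finite F] (hι : Fintype.card ι = 4) {w f : ι → F} (hw : Q w = 0) (hf : Q f = 0)
    (hwf : polar ⇑Q w f = 1) {c : F} (hc : c ≠ 0) : ∃ z ∈ comp Q w f, Q z = c := by
  obtain ⟨z, hz⟩ := CfsgLib.Classical.Quad.exists_apply_eq (nondeg_comp hQ hw hf hwf).comp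
    (two_le_finrank_comp hι w f) hc
  exact ⟨z, z.2, hz⟩

/-- A singular plane is its own orthogonal. -/
theorem mem_plane (hι : Fintype.card ι = 4) {w a : ι → F} (hw : Q w = 0) (ha : Q a = 0)
    (hwa : polar ⇑Q w a = 0) (hw0 : w ≠ 0) (hind : ∀ c : F, a ≠ c • w) {x : ι → F} (hxw : polar ⇑Q w x = 0)
    (hxa : polar ⇑Q a x = 0) : x ∈ Submodule.span F {w, a} := by
  classical
  set L := Submodule.span F ({w, a} : Set (ι → F)) with hL
  have hmem : ∀ y, polar ⇑Q w y = 0 → polar ⇑Q a y = 0 → y ∈ perp Q L := fun y h1 h2 =>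
    mem_perp.2 fun z hz => by
      obtain ⟨α, β, rfl⟩ := Submodule.mem_span_pair.1 hz
      rw [QuadraticMap.polar_add_left, polar_smul_left', polar_smul_left', h1, h2, mul_zero, mul_zero, add_zero]
  have hle : L ≤ perp Q L := by
    refine Submodule.span_le.2 fun y hy => ?_
    rcases hy with rfl | rfl
    · exact hmem _ (polar_self_zero hw) ((QuadraticMap.polar_comm _ _ _).trans hwa)
    · exact hmem _ hwa (polar_self_zero ha)
  have hli : LinearIndependent F ![w, a] :=
    (LinearIndependent.pair_iff' hw0).2 fun c e => hind c e.symm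
  have hdim : Module.finrank F L = 2 := by
    have := finrank_span_eq_card hli
    rw [Fintype.card_fin, show Set.range ![w, a] = {w, a} by simp [Set.pair_comm]] at this
    exact this
  have h3 := finrank_perp hQ L
  rw [Module.finrank_pi, hι, hdim] at h3
  rw [Submodule.eq_of_le_of_finrank_le hle (by rw [hdim]; omega)]
  exact hmem x hxw hxa

theorem eg_fix {w a : ι → F} (hw : Q w = 0) (ha : polar ⇑Q w a = 0) :
    (eg hQ hw ha : Matrix ι ι F) *ᵥ w = w := by
  rw [eg_mulVec, ha, polar_self_zero hw]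
  module

theorem eg_polar {w a : ι → F} (hw : Q w = 0) (ha : polar ⇑Q w a = 0) (x y : ι → F) :
    polar ⇑Q ((eg hQ hw ha : Matrix ι ι F) *ᵥ x) ((eg hQ hw ha : Matrix ι ι F) *ᵥ y) = polar ⇑Q x y := by
  simp only [polar, ← Matrix.mulVec_add, eg_isometry]

theorem eg_mul {w a b : ι → F} (hw : Q w = 0) (ha : polar ⇑Q w a = 0) (hb : polar ⇑Q w b = 0)
    (hab : polar ⇑Q w (a + b) = 0) : eg hQ hw ha * eg hQ hw hb = eg hQ hw hab := by
  refine ext_mulVec fun z => ?_
  rw [Units.val_mul, ← Matrix.mulVec_mulVec, ← eich_apply hQ hw hb z |>.trans (eg_mulVec hQ hw hb z).symm]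
  rw [eg_mulVec hQ hw ha, eg_mulVec hQ hw hab, ← eich_apply hQ hw ha, ← eich_apply hQ hw hab,
    ← eich_mul hQ hw ha hb]
  rfl

/-! ### Transitivity on singular vectors -/

theorem exists_move_to (h2 : (2 : F) ≠ 0) {M : Subgroup (GL ι F)} (hS : HasSiegel hQ M) {r w w' : ι → F}
    (hr : Q r = 0) (hw : Q w = 0) (hw' : Q w' = 0) (hwr : polar ⇑Q w r ≠ 0)
    (he : polar ⇑Q w' r = polar ⇑Q w r) : ∃ g ∈ M, (g : Matrix ι ι F) *ᵥ w = w' := by
  set k := polar ⇑Q w r
  set a := k⁻¹ • (w - w') with hadef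
  have ha : polar ⇑Q r a = 0 := by
    rw [hadef, polar_smul_right', QuadraticMap.polar_sub_right, QuadraticMap.polar_comm (⇑Q) r w,
      QuadraticMap.polar_comm (⇑Q) r w', he, sub_self, mul_zero]
  refine ⟨eg hQ hr ha, hS hr ha, ?_⟩
  rw [eg_mulVec]
  have e1 : polar ⇑Q w a = -(k⁻¹ * polar ⇑Q w w') := by
    rw [hadef, polar_smul_right', QuadraticMap.polar_sub_right, polar_self_zero hw]
    ring
  have e2 : Q a = -(k⁻¹ ^ 2 * polar ⇑Q w w') := by
    rw [hadef, QuadraticMap.map_smul, smul_eq_mul, sub_eq_add_neg, apply_add, QuadraticMap.map_neg, hw, hw',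
      QuadraticMap.polar_neg_right]
    ring
  have e3 : polar ⇑Q w a - Q a * polar ⇑Q w r = 0 := by
    rw [e1, e2]
    field_simp
    ring
  rw [e3, zero_smul, add_zero, hadef, smul_smul, show -polar ⇑Q w r * k⁻¹ = -1 by
    show -k * k⁻¹ = -1
    rw [neg_mul, mul_inv_cancel₀ hwr]]
  module

theorem exists_vertex [Finite F] (hι : Fintype.card ι = 4) {w w' : ι → F} (hw : Q w = 0) (hw' : Q w' = 0)
    (hw0 : w ≠ 0) (hw0' : w' ≠ 0) :
    ∃ r, Q r = 0 ∧ polar ⇑Q w r ≠ 0 ∧ polar ⇑Q w' r ≠ 0 := by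
  by_cases hπ : polar ⇑Q w w' = 0
  · obtain ⟨f, hf, hwf⟩ := exists_mate hQ hw hw0
    by_cases h1 : polar ⇑Q w' f = 0
    swap
    · exact ⟨f, hf, by rw [hwf]; exact one_ne_zero, h1⟩
    obtain ⟨f', hf', hwf'⟩ := exists_mate hQ hw' hw0'
    by_cases h2 : polar ⇑Q w f' = 0
    swap
    · exact ⟨f', hf', h2, by rw [hwf']; exact one_ne_zero⟩
    refine ⟨f + f' + (-polar ⇑Q f f') • w, ?_, ?_, ?_⟩
    · rw [apply_add, apply_add, apply_smul, hf, hf', hw, QuadraticMap.polar_add_left, polar_smul_right',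
        polar_smul_right', QuadraticMap.polar_comm (⇑Q) f w, hwf, QuadraticMap.polar_comm (⇑Q) f' w, h2]
      ring
    · rw [QuadraticMap.polar_add_right, QuadraticMap.polar_add_right, hwf, h2, polar_smul_right', polar_self_zero hw]
      simp
    · rw [QuadraticMap.polar_add_right, QuadraticMap.polar_add_right, h1, hwf', polar_smul_right',
        QuadraticMap.polar_comm (⇑Q) w' w, hπ]
      simp
  set π := polar ⇑Q w w' with hπdef
  set f := π⁻¹ • w' with hfdef
  have hf : Q f = 0 := by rw [hfdef, apply_smul, hw', mul_zero]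
  have hwf : polar ⇑Q w f = 1 := by rw [hfdef, polar_smul_right', ← hπdef, inv_mul_cancel₀ hπ]
  obtain ⟨z, hz, hqz⟩ := exists_comp_value hQ hι hw hf hwf (c := -π⁻¹) (neg_ne_zero.2 (inv_ne_zero hπ))
  obtain ⟨hwz, hfz⟩ := mem_comp.1 hz
  have hwz' : polar ⇑Q w' z = 0 := by
    rw [hfdef, polar_smul_left'] at hfz
    exact (mul_eq_zero.1 hfz).resolve_left (inv_ne_zero hπ)
  refine ⟨π⁻¹ • w + f + z, ?_, ?_, ?_⟩
  · rw [apply_add, apply_add, apply_smul, hw, hf, hqz, QuadraticMap.polar_add_left, polar_smul_left',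
      polar_smul_left', hwf, hwz, hfz]
    ring
  · rw [QuadraticMap.polar_add_right, QuadraticMap.polar_add_right, polar_smul_right', polar_self_zero hw, hwf, hwz]
    simp
  · rw [QuadraticMap.polar_add_right, QuadraticMap.polar_add_right, polar_smul_right',
      QuadraticMap.polar_comm (⇑Q) w' w, ← hπdef, hfdef, polar_smul_right', polar_self_zero hw', hwz']
    simp [hπ]

theorem exists_step [Finite F] (h2 : (2 : F) ≠ 0) (hι : Fintype.card ι = 4) {M : Subgroup (GL ι F)}
    (hS : HasSiegel hQ M) {w w' : ι → F} (hw : Q w = 0) (hw' : Q w' = 0) (hπ : polar ⇑Q w w' ≠ 0) :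
    ∃ g ∈ M, (g : Matrix ι ι F) *ᵥ w = w' := by
  set π := polar ⇑Q w w' with hπdef
  set f := π⁻¹ • w' with hfdef
  have hf : Q f = 0 := by rw [hfdef, apply_smul, hw', mul_zero]
  have hwf : polar ⇑Q w f = 1 := by rw [hfdef, polar_smul_right', ← hπdef, inv_mul_cancel₀ hπ]
  obtain ⟨z, hz, hqz⟩ := exists_comp_value hQ hι hw hf hwf (c := -π⁻¹) (neg_ne_zero.2 (inv_ne_zero hπ))
  obtain ⟨hwz, hfz⟩ := mem_comp.1 hz
  have hwz' : polar ⇑Q w' z = 0 := by
    rw [hfdef, polar_smul_left'] at hfz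
    exact (mul_eq_zero.1 hfz).resolve_left (inv_ne_zero hπ)
  have hr : Q (π⁻¹ • w + f + z) = 0 := by
    rw [apply_add, apply_add, apply_smul, hw, hf, hqz, QuadraticMap.polar_add_left, polar_smul_left',
      polar_smul_left', hwf, hwz, hfz]
    ring
  have h1 : polar ⇑Q w (π⁻¹ • w + f + z) = 1 := by
    rw [QuadraticMap.polar_add_right, QuadraticMap.polar_add_right, polar_smul_right', polar_self_zero hw, hwf, hwz]
    ring
  have h1' : polar ⇑Q w' (π⁻¹ • w + f + z) = 1 := by
    rw [QuadraticMap.polar_add_right, QuadraticMap.polar_add_right, polar_smul_right',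
      QuadraticMap.polar_comm (⇑Q) w' w, ← hπdef, hfdef, polar_smul_right', polar_self_zero hw', hwz']
    simp [hπ]
  exact exists_move_to hQ h2 hS hr hw hw' (by rw [h1]; exact one_ne_zero) (by rw [h1, h1'])

theorem transitive [Finite F] (h2 : (2 : F) ≠ 0) (hι : Fintype.card ι = 4) {M : Subgroup (GL ι F)}
    (hS : HasSiegel hQ M) {w w' : ι → F} (hw : Q w = 0) (hw' : Q w' = 0) (hw0 : w ≠ 0) (hw0' : w' ≠ 0) :
    ∃ g ∈ M, (g : Matrix ι ι F) *ᵥ w = w' := by
  obtain ⟨v, hv, h1, h1'⟩ := exists_vertex hQ hι hw hw' hw0 hw0'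
  obtain ⟨g, hg, e⟩ := exists_step hQ h2 hι hS hw hv h1
  obtain ⟨g', hg', e'⟩ := exists_step hQ h2 hι hS hv hw' (by rwa [QuadraticMap.polar_comm])
  exact ⟨g' * g, M.mul_mem hg' hg, by rw [Units.val_mul, ← Matrix.mulVec_mulVec, e, e']⟩

/-- A quadratic form vanishing on all singular vectors is a multiple. -/
theorem eq_smul_of_singular [Finite F] (h2 : (2 : F) ≠ 0) (hι : Fintype.card ι = 4) {Q' : QuadraticForm F (ι → F)}
    (h : ∀ x, Q x = 0 → Q' x = 0) : ∃ c : F, ∀ x, Q' x = c * Q x := by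
  obtain ⟨w, hw, hw0⟩ := exists_singular hQ hι
  obtain ⟨f, hf, hwf⟩ := exists_mate hQ hw hw0
  set c := polar ⇑Q' w f with hc
  -- on the complement
  have key : ∀ z ∈ comp Q w f, ∀ α β : F, α * β + Q z = 0 →
      α * β * c + α * polar ⇑Q' w z + β * polar ⇑Q' f z + Q' z = 0 := by
    intro z hz α β e
    obtain ⟨hwz, hfz⟩ := mem_comp.1 hz
    have h0 : Q (α • w + β • f + z) = 0 := by
      rw [apply_add, apply_add, apply_smul, apply_smul, hw, hf, QuadraticMap.polar_add_left, polar_smul_left',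
        polar_smul_left', polar_smul_left', polar_smul_right', hwf, hwz, hfz]
      linear_combination e
    have h1 := h _ h0
    rw [apply_add, apply_add, apply_smul, apply_smul, h w hw, h f hf, QuadraticMap.polar_add_left, polar_smul_left',
      polar_smul_left', polar_smul_left', polar_smul_right', ← hc] at h1
    linear_combination h1
  have hQz : ∀ z ∈ comp Q w f, Q' z = c * Q z ∧ polar ⇑Q' w z = Q z * polar ⇑Q' f z := by
    intro z hz
    have h1 := key z hz 1 (-Q z) (by ring)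
    have h2' := key z hz (-1) (Q z) (by ring)
    refine ⟨mul_left_cancel₀ h2 ?_, mul_left_cancel₀ h2 ?_⟩
    · linear_combination h1 + h2'
    · linear_combination h1 - h2'
  obtain ⟨z₁, hz₁, hq₁⟩ := exists_comp_value hQ hι hw hf hwf (c := 1) one_ne_zero
  have hlin : ∀ z ∈ comp Q w f, polar ⇑Q' w z = 0 ∧ polar ⇑Q' f z = 0 := by
    have pair : ∀ a ∈ comp Q w f, ∀ b ∈ comp Q w f, polar ⇑Q a b = 0 → Q b ≠ 0 →
        polar ⇑Q' f a = 0 := by
      intro a ha b hb hab hqb
      have e1 := (hQz _ (Submodule.add_mem _ ha hb)).2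
      have e2 := (hQz _ (Submodule.sub_mem _ ha hb)).2
      have e3 := (hQz a ha).2
      rw [apply_add, hab, QuadraticMap.polar_add_right, QuadraticMap.polar_add_right] at e1
      rw [sub_eq_add_neg, apply_add, QuadraticMap.map_neg, QuadraticMap.polar_neg_right, hab,
        QuadraticMap.polar_add_right, QuadraticMap.polar_add_right, QuadraticMap.polar_neg_right,
        QuadraticMap.polar_neg_right] at e2
      have : 2 * (Q b * polar ⇑Q' f a) = 0 := by linear_combination (2 : F) * e3 - e1 - e2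
      exact (mul_eq_zero.1 ((mul_eq_zero.1 this).resolve_left h2)).resolve_left hqb
    intro z hz
    have hp : polar ⇑Q' f z = 0 := by
      set k := polar ⇑Q z z₁ / 2 with hk
      set a := z - k • z₁ with hadef
      have ha : a ∈ comp Q w f := Submodule.sub_mem _ hz (Submodule.smul_mem _ _ hz₁)
      have haz : polar ⇑Q a z₁ = 0 := by
        rw [hadef, QuadraticMap.polar_sub_left, polar_smul_left', polar_self_two, hq₁, hk]
        field_simp
        ring
      have hfa := pair a ha z₁ hz₁ haz (by rw [hq₁]; exact one_ne_zero)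
      obtain ⟨b, hb, hbz, hqb⟩ : ∃ b ∈ comp Q w f, polar ⇑Q z₁ b = 0 ∧ Q b ≠ 0 := by
        by_contra! hno
        have hnd := nondeg_comp hQ hw hf hwf
        have hzero : ∀ b ∈ comp Q w f, polar ⇑Q z₁ b = 0 → b = 0 := fun b hb hzb => by
          refine hnd b hb fun y hy => ?_
          have hy' : y - (polar ⇑Q y z₁ / 2) • z₁ ∈ comp Q w f :=
            Submodule.sub_mem _ hy (Submodule.smul_mem _ _ hz₁)
          have hyz : polar ⇑Q z₁ (y - (polar ⇑Q y z₁ / 2) • z₁) = 0 := by
            rw [QuadraticMap.polar_sub_right, polar_smul_right', polar_self_two, hq₁,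
              QuadraticMap.polar_comm (⇑Q) z₁ y]
            field_simp
            ring
          have e1 := hno b hb hzb
          have e2 := hno _ hy' hyz
          have e3 := hno _ (Submodule.add_mem _ hb hy')
            (by rw [QuadraticMap.polar_add_right, hzb, hyz, add_zero])
          rw [apply_add, e1, e2, QuadraticMap.polar_sub_right, polar_smul_right',
            QuadraticMap.polar_comm (⇑Q) b z₁, hzb] at e3
          linear_combination e3
        have hle : comp Q w f ≤ Submodule.span F {z₁} := fun y hy => Submodule.mem_span_singleton.2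
          ⟨polar ⇑Q y z₁ / 2, (sub_eq_zero.1 (hzero _ (Submodule.sub_mem _ hy (Submodule.smul_mem _ _ hz₁)) (by
            rw [QuadraticMap.polar_sub_right, polar_smul_right', polar_self_two, hq₁,
              QuadraticMap.polar_comm (⇑Q) z₁ y]
            field_simp
            ring))).symm⟩
        have := Submodule.finrank_mono hle
        have := two_le_finrank_comp (Q := Q) hι w f
        rw [finrank_span_singleton (fun e => one_ne_zero (α := F) (by rw [← hq₁, e, QuadraticMap.map_zero]))] at *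
        omega
      have hf1 := pair z₁ hz₁ b hb hbz hqb
      rw [show z = a + k • z₁ by rw [hadef, sub_add_cancel], QuadraticMap.polar_add_right, polar_smul_right', hfa,
        hf1, mul_zero, add_zero]
    exact ⟨by rw [(hQz z hz).2, hp, mul_zero], hp⟩
  refine ⟨c, fun x => ?_⟩
  set z := x - polar ⇑Q x f • w - polar ⇑Q x w • f with hzdef
  have hz : z ∈ comp Q w f := sub_mem_comp hw hf hwf x
  obtain ⟨hwz, hfz⟩ := mem_comp.1 hz
  obtain ⟨hwz', hfz'⟩ := hlin z hz
  have hx : x = polar ⇑Q x f • w + polar ⇑Q x w • f + z := by rw [hzdef]; abel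
  rw [hx, apply_add, apply_add, apply_smul, apply_smul, h w hw, h f hf, (hQz z hz).1, apply_add, apply_add,
    apply_smul, apply_smul, hw, hf]
  simp only [QuadraticMap.polar_add_left, QuadraticMap.polar_smul_left, QuadraticMap.polar_smul_right, smul_eq_mul,
    hwf, hwz, hfz, hwz', hfz', ← hc]
  ring

end CfsgLib.Geo.SLFour.Quad
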