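/-
A transvection centred at a singular vector, with all Siegel elements, generates SL(4).
-/
import Cfsg.Agent.Lib.Geo.SLFour.QuadBase

set_option autoImplicit false

namespace CfsgLib.Geo.SLFour.Quad

open Matrix CfsgLib.Classical CfsgLib.Classical.Quad CfsgLib.Geo.Roots CfsgLib.Geo.OrthMax CfsgLib.Geo.QuadSim
open QuadraticMap (polar polarBilin)

variable {ι : Type} [Fintype ι] [DecidableEq ι] {F : Type*} [Field F] {Q : QuadraticForm F (ι → F)}

/-- The isometries as a subgroup of `GL`. -/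
def iso (Q : QuadraticForm F (ι → F)) : Subgroup (GL ι F) where
  carrier := {g | ∀ v, Q ((g : Matrix ι ι F) *ᵥ v) = Q v}
  mul_mem' {a b} ha hb v := by rw [Units.val_mul, ← Matrix.mulVec_mulVec, ha, hb]
  one_mem' v := by rw [Units.val_one, Matrix.one_mulVec]
  inv_mem' {a} ha v := by
    conv_rhs => rw [← Matrix.one_mulVec v, ← Units.mul_inv a, ← Matrix.mulVec_mulVec, ha]

theorem mem_iso {g : GL ι F} : g ∈ iso Q ↔ ∀ v, Q ((g : Matrix ι ι F) *ᵥ v) = Q v := Iff.rfl

variable (hQ : (polarBilin Q).Nondegenerate) (h2 : (2 : F) ≠ 0) (hι : Fintype.card ι = 4)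
  {M : Subgroup (GL ι F)} (hS : HasSiegel hQ M)
include hQ

theorem hasSiegel_iso (hS : HasSiegel hQ M) : HasSiegel hQ (M ⊓ iso Q) :=
  fun hw ha => ⟨hS hw ha, eg_isometry hQ hw ha⟩

include h2 hι in
theorem exists_orth_aniso [Finite F] {w f z : ι → F} (hw : Q w = 0) (hw0 : w ≠ 0) (hwf : polar ⇑Q w f = 1)
    (hz : z ∈ comp Q w f)    (hqz : Q z ≠ 0) : ∃ z' ∈ comp Q w f, polar ⇑Q z z' = 0 ∧ Q z' ≠ 0 := by
  by_contra! hno
  have h1 := finrank_cut (Q := Q) (comp Q w f) z
  have h2' := two_le_finrank_comp (Q := Q) hι w f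
  obtain ⟨z', hz', hz'0⟩ := Submodule.exists_mem_ne_zero_of_ne_bot (p := cut (comp Q w f) Q z) fun e => by
    rw [e, finrank_bot] at h1
    omega
  have hqz' : Q z' = 0 := hno z' hz'.1 hz'.2
  by_cases hind : ∀ c : F, z' ≠ c • w
  · obtain ⟨α, β, e⟩ := Submodule.mem_span_pair.1
      (mem_plane hQ hι hw hqz' (mem_comp.1 hz'.1).1 hw0 hind (mem_comp.1 hz).1
        ((QuadraticMap.polar_comm _ _ _).trans hz'.2))
    refine hqz ?_
    rw [← e, apply_add, apply_smul, apply_smul, hw, hqz', polar_smul_left', polar_smul_right', (mem_comp.1 hz'.1).1]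
    ring
  · push Not at hind
    obtain ⟨c, rfl⟩ := hind
    have hfz := (mem_comp.1 hz'.1).2
    rw [polar_smul_right', QuadraticMap.polar_comm, hwf, mul_one] at hfz
    exact hz'0 (by rw [hfz, zero_smul])

/-- Transvections centred at singular vectors, with functional orthogonal to a singular vector, are trivial. -/
def Clean (Q : QuadraticForm F (ι → F)) (M : Subgroup (GL ι F)) : Prop :=
  ∀ w, Q w = 0 → w ≠ 0 → ∀ φ, Root M φ w → φ = 0

include h2 hι hS in
theorem exists_root_self [Finite F] (hno : ¬ Clean Q M) :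
    ∃ w, ∃ k : F, Q w = 0 ∧ w ≠ 0 ∧ k ≠ 0 ∧ Root M (k • vec Q w) w := by
  simp only [Clean, not_forall] at hno
  obtain ⟨w, hw, hw0, φ, h, hφ⟩ := hno
  obtain ⟨y, rfl⟩ := vec_surjective hQ φ
  have hyw : polar ⇑Q y w = 0 := by rw [← vec_dot]; exact h.dot
  obtain ⟨f, hf, hwf⟩ := exists_mate hQ hw hw0
  by_cases hall : ∀ z ∈ comp Q w f, polar ⇑Q y z = 0
  · have hy : y = polar ⇑Q y f • w := eq_of_vec hQ fun x => by
      have h1 := hall _ (sub_mem_comp hw hf hwf x)
      rw [QuadraticMap.polar_sub_right, QuadraticMap.polar_sub_right, polar_smul_right', polar_smul_right', hyw] at h1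
      rw [polar_smul_left', QuadraticMap.polar_comm (⇑Q) w x]
      linear_combination h1
    refine ⟨w, polar ⇑Q y f, hw, hw0, fun e => hφ ?_, ?_⟩
    · rw [hy, e, zero_smul]
      exact funext fun j => QuadraticMap.polar_zero_left _ _
    · rw [← QuadSim.vec_smul, ← hy]
      exact h
  push Not at hall
  obtain ⟨a, ha, hya⟩ := hall
  have hwa := (mem_comp.1 ha).1
  have h1 := root_eg hQ hS h hw hwa
  rw [eg_fix hQ hw hwa, show (eg hQ hw hwa : Matrix ι ι F) *ᵥ y = y + polar ⇑Q y a • w by
    rw [eg_mulVec, hyw]; module, QuadSim.vec_add, QuadSim.vec_smul] at h1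
  refine ⟨w, polar ⇑Q y a, hw, hw0, hya, ?_⟩
  have := h1.sub h
  rwa [add_sub_cancel_left] at this

include h2 hι hS in
theorem root_self_all [Finite F] {w : ι → F} {k : F} (hw : Q w = 0) (hw0 : w ≠ 0) (hk : k ≠ 0)
    (h : Root M (k • vec Q w) w) {w' : ι → F} (hw' : Q w' = 0) (s : F) : Root M (s • vec Q w') w' := by
  rcases eq_or_ne w' 0 with rfl | hw0'
  · rw [show vec Q (0 : ι → F) = 0 from funext fun j => QuadraticMap.polar_zero_left _ _, smul_zero]
    exact Root.zero _
  refine all_of_squares (P := fun s => Root M (s • vec Q w') w') h2 (fun a b ha hb => ?_) (fun a ha => ?_) hk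
    (fun t => ?_) s
  · rw [add_smul]
    exact ha.add hb
  · rw [neg_smul]
    exact ha.neg
  rcases eq_or_ne t 0 with rfl | ht
  · rw [zero_pow two_ne_zero, mul_zero, zero_smul]
    exact Root.zero _
  obtain ⟨g, hg, e⟩ := transitive hQ h2 hι (hasSiegel_iso hQ hS) hw (w' := t • w')
    (by rw [apply_smul, hw', mul_zero]) hw0 (smul_ne_zero ht hw0')
  have h1 := h.conj hg.1
  rw [Matrix.smul_vecMul, vec_conj hQ hg.2, e] at h1
  have h3 := (root_smul_iff ht).1 h1
  rw [QuadSim.vec_smul, smul_smul, smul_smul] at h3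
  convert h3 using 2
  ring

include h2 hι hS in
theorem exists_centre [Finite F] {w : ι → F} {k : F} (hw : Q w = 0) (hw0 : w ≠ 0) (hk : k ≠ 0)
    (h : Root M (k • vec Q w) w) : ∃ v, IsCentre M v ∧ polar ⇑Q v w ≠ 0 ∧ v ≠ 0 := by
  obtain ⟨f, hf, hwf⟩ := exists_mate hQ hw hw0
  have hfw : polar ⇑Q f w = 1 := by rw [QuadraticMap.polar_comm, hwf]
  obtain ⟨hd, hmem⟩ := root_self_all hQ h2 hι hS hw hw0 hk h hf 1
  set g := transvectionGL ((1 : F) • vec Q f) f hd with hg
  set v := w + f with hv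
  set y := w - f with hy
  have hgw : (g : Matrix ι ι F) *ᵥ w = v := by
    rw [hg, transvectionGL_mulVec, one_smul, vec_dot, hfw, one_smul]
  have hyv : ∀ c : F, Root M (c • vec Q y) v := fun c => by
    have h1 := (root_self_all hQ h2 hι hS hw hw0 hk h hw c).conj hmem
    rw [hgw, Matrix.smul_vecMul] at h1
    convert h1 using 2
    refine eq_of_dot fun x => ?_
    rw [← Matrix.dotProduct_mulVec, vec_dot, vec_dot]
    set x' := ((g⁻¹ : GL ι F) : Matrix ι ι F) *ᵥ x with hx'
    have ex : x = (g : Matrix ι ι F) *ᵥ x' := by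
      rw [hx', Matrix.mulVec_mulVec, Units.mul_inv, Matrix.one_mulVec]
    rw [ex, hg, transvectionGL_mulVec, one_smul, vec_dot]
    simp only [hy, QuadraticMap.polar_add_right, polar_smul_right', QuadraticMap.polar_sub_left, hwf,
      polar_self_zero hf]
    ring
  let A : Submodule F (ι → F) :=
    { carrier := {x | ∀ c : F, Root M (c • vec Q x) v}
      add_mem' := fun {a b} ha hb c => by rw [QuadSim.vec_add, smul_add]; exact (ha c).add (hb c)
      zero_mem' := fun c => by
        rw [show vec Q (0 : ι → F) = 0 from funext fun j => QuadraticMap.polar_zero_left _ _, smul_zero]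
        exact Root.zero _
      smul_mem' := fun d x hx c => by rw [QuadSim.vec_smul, smul_smul]; exact hx _ }
  have hyA : y ∈ A := hyv
  obtain ⟨z, hz, hqz⟩ := exists_comp_value hQ hι hw hf hwf (c := 1) one_ne_zero
  obtain ⟨z', hz', hzz', hqz'⟩ := exists_orth_aniso hQ h2 hι hw hw0 hwf hz (by rw [hqz]; exact one_ne_zero)
  obtain ⟨hwz, hfz⟩ := mem_comp.1 hz
  obtain ⟨hwz', hfz'⟩ := mem_comp.1 hz'
  set r := y + z with hr
  have hyy : polar ⇑Q y y = -2 := by
    simp only [hy, QuadraticMap.polar_sub_left, QuadraticMap.polar_sub_right, polar_self_zero hw, polar_self_zero hf,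
      hwf, hfw]
    ring
  have hvy : polar ⇑Q v y = 0 := by
    simp only [hv, hy, QuadraticMap.polar_add_left, QuadraticMap.polar_sub_right, polar_self_zero hw,
      polar_self_zero hf, hwf, hfw]
    ring
  have hyz : polar ⇑Q y z = 0 := by rw [hy, QuadraticMap.polar_sub_left, hwz, hfz, sub_self]
  have hqr : Q r = 0 := by
    rw [hr, apply_add, hqz, hyz, hy, sub_eq_add_neg, apply_add, QuadraticMap.map_neg, hw, hf,
      QuadraticMap.polar_neg_right, hwf]
    ring
  have hvr : polar ⇑Q v r = 0 := by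
    rw [hr, QuadraticMap.polar_add_right, hvy, hv, QuadraticMap.polar_add_left, hwz, hfz]
    ring
  have hyr : polar ⇑Q y r = -2 := by rw [hr, QuadraticMap.polar_add_right, hyz, hyy, add_zero]
  have hne : polar ⇑Q y r ≠ 0 := by rw [hyr]; exact neg_ne_zero.2 h2
  have hmove : ∀ {a : ι → F}, polar ⇑Q v a = 0 → ∀ (ha : polar ⇑Q r a = 0), ∀ x ∈ A,
      (eg hQ hqr ha : Matrix ι ι F) *ᵥ x ∈ A := by
    intro a hva ha x hx c
    have := root_eg hQ hS (show Root M (vec Q (c • x)) v by rw [QuadSim.vec_smul]; exact hx c) hqr ha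
    rw [Matrix.mulVec_smul, QuadSim.vec_smul, show (eg hQ hqr ha : Matrix ι ι F) *ᵥ v = v by
      rw [eg_mulVec, hvr, hva]; module] at this
    exact this
  have hpm : ∀ a, polar ⇑Q v a = 0 → polar ⇑Q r a = 0 →
      (-2 * Q a * polar ⇑Q y r) • r ∈ A ∧ (2 * polar ⇑Q y a) • r + (-2 * polar ⇑Q y r) • a ∈ A := by
    intro a hva ha
    have ha' : polar ⇑Q r (-a) = 0 := by rw [QuadraticMap.polar_neg_right, ha, neg_zero]
    have h1 := hmove hva ha y hyA
    have h1' := hmove (a := -a) (by rw [QuadraticMap.polar_neg_right, hva, neg_zero]) ha' y hyA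
    rw [eg_mulVec hQ hqr ha] at h1
    rw [eg_mulVec hQ hqr ha', QuadraticMap.polar_neg_right, QuadraticMap.map_neg] at h1'
    refine ⟨?_, ?_⟩
    · convert A.sub_mem (A.sub_mem (A.add_mem h1 h1') hyA) hyA using 1
      module
    · convert A.sub_mem h1 h1' using 1
      module
  have hyz' : polar ⇑Q y z' = 0 := by rw [hy, QuadraticMap.polar_sub_left, hwz', hfz', sub_self]
  have hrA : r ∈ A :=
    (A.smul_mem_iff (mul_ne_zero (mul_ne_zero (neg_ne_zero.2 h2) hqz') hne)).1 (hpm z'
      (by rw [hv, QuadraticMap.polar_add_left, hwz', hfz', add_zero])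
      (by rw [hr, QuadraticMap.polar_add_left, hyz', hzz', add_zero])).1
  have hall : ∀ x, polar ⇑Q v x = 0 → x ∈ A := by
    intro x hx
    set c := polar ⇑Q r x / polar ⇑Q r y
    have hry : polar ⇑Q r y ≠ 0 := by rwa [QuadraticMap.polar_comm]
    have h1 := (hpm (x - c • y)
      (by rw [QuadraticMap.polar_sub_right, polar_smul_right', hx, hvy]; ring)
      (by rw [QuadraticMap.polar_sub_right, polar_smul_right', div_mul_cancel₀ _ hry, sub_self])).2
    have h1' := (A.smul_mem_iff (mul_ne_zero (neg_ne_zero.2 h2) hne)).1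
      ((A.add_mem_iff_right (A.smul_mem _ hrA)).1 h1)
    simpa using A.add_mem h1' (A.smul_mem c hyA)
  refine ⟨v, fun φ hφ => ?_, ?_, fun e => ?_⟩
  · obtain ⟨x, rfl⟩ := vec_surjective hQ φ
    have := hall x (by rw [QuadraticMap.polar_comm, ← vec_dot]; exact hφ) 1
    rw [one_smul] at this
    exact this.2
  · rw [hv, QuadraticMap.polar_add_left, polar_self_zero hw, hfw, zero_add]
    exact one_ne_zero
  · have h1 : polar ⇑Q v w = 1 := by rw [hv, QuadraticMap.polar_add_left, polar_self_zero hw, hfw, zero_add]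
    rw [e, QuadraticMap.polar_zero_left] at h1
    exact zero_ne_one h1

include h2 hι hS in
theorem specialLinear_le [Finite F] (hno : ¬ Clean Q M) : Cfsg.Geo.specialLinear ι F ≤ M := by
  obtain ⟨w, k, hw, hw0, hk, h⟩ := exists_root_self hQ h2 hι hS hno
  obtain ⟨v, hcen, hvw, -⟩ := exists_centre hQ h2 hι hS hw hw0 hk h
  haveI : Nontrivial ι := Fintype.one_lt_card_iff_nontrivial.1 (by omega)
  have hzero : IsCentre M (0 : ι → F) := fun φ hφ => by
    convert M.one_mem using 1
    refine ext_mulVec fun z => ?_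
    rw [transvectionGL_mulVec, smul_zero, add_zero, Units.val_one, Matrix.one_mulVec]
  let S : Submodule F (ι → F) :=
    { carrier := {u | IsCentre M u}
      add_mem' := fun {a b} ha hb => by
        by_cases hab : a ∈ Submodule.span F {b}
        · obtain ⟨k, rfl⟩ := Submodule.mem_span_singleton.1 hab
          rcases eq_or_ne (k + 1) 0 with h0 | h0
          · show IsCentre M (k • b + b)
            rw [show k • b + b = (k + 1) • b from by rw [add_smul, one_smul], h0, zero_smul]
            exact hzero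
          · show IsCentre M (k • b + b)
            rw [show k • b + b = (k + 1) • b from by rw [add_smul, one_smul]]
            exact IsCentre.smul hb _ h0
        · obtain ⟨φ, h0, h1⟩ := exists_functional b a hab
          have := IsCentre.map ha (hb φ h0)
          rw [transvectionGL_mulVec, h1, one_smul] at this
          exact this
      zero_mem' := hzero
      smul_mem' := fun k a ha => by
        rcases eq_or_ne k 0 with rfl | hk
        · show IsCentre M ((0 : F) • a)
          rw [zero_smul]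
          exact hzero
        · exact IsCentre.smul ha k hk }
  have hwS : w ∈ S := by
    obtain ⟨f, hf, hwf⟩ := exists_mate hQ hw hw0
    obtain ⟨z, hz, hqz⟩ := exists_comp_value hQ hι hw hf hwf (c := 1) one_ne_zero
    have hz1 : polar ⇑Q w z = 0 := (mem_comp.1 hz).1
    have hz' : polar ⇑Q w (-z) = 0 := by rw [QuadraticMap.polar_neg_right, hz1, neg_zero]
    have h1 : (eg hQ hw hz1 : Matrix ι ι F) *ᵥ v ∈ S := IsCentre.map hcen (hS hw hz1)
    have h1' : (eg hQ hw hz' : Matrix ι ι F) *ᵥ v ∈ S := IsCentre.map hcen (hS hw hz')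
    rw [eg_mulVec hQ hw hz1] at h1
    rw [eg_mulVec hQ hw hz', QuadraticMap.polar_neg_right, QuadraticMap.map_neg] at h1'
    refine (S.smul_mem_iff (mul_ne_zero (mul_ne_zero (neg_ne_zero.2 h2) (hqz.symm ▸ one_ne_zero : Q z ≠ 0)) hvw)).1 ?_
    convert S.sub_mem (S.sub_mem (S.add_mem h1 h1') hcen) hcen using 1
    module
  have hStop : (⊤ : Submodule F (ι → F)) ≤ S :=
    le_of_singular_odd hQ h2 (by rw [finrank_top, Module.finrank_pi]; omega) fun x _ hx => by
      rcases eq_or_ne x 0 with rfl | hx0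
      · exact S.zero_mem
      obtain ⟨g, hg, e⟩ := transitive hQ h2 hι hS hw hx hw0 hx0
      rw [← e]
      exact IsCentre.map hwS hg
  exact specialLinear_le_of_centres M fun u => hStop Submodule.mem_top

end CfsgLib.Geo.SLFour.Quad
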