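/-
The stabiliser of a singular vector in an overgroup of an orthogonal group of SL(4) without transvections.
-/
import Cfsg.Agent.Lib.Geo.SLFour.QuadRoot

set_option autoImplicit false

namespace CfsgLib.Geo.SLFour.Quad

open Matrix CfsgLib.Classical CfsgLib.Classical.Quad CfsgLib.Geo.Roots CfsgLib.Geo.OrthMax CfsgLib.Geo.QuadSim
open QuadraticMap (polar polarBilin)

variable {ι : Type} [Fintype ι] [DecidableEq ι] {F : Type*} [Field F] {Q : QuadraticForm F (ι → F)}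
  (hQ : (polarBilin Q).Nondegenerate) (h2 : (2 : F) ≠ 0) (hι : Fintype.card ι = 4)
  {M : Subgroup (GL ι F)} (hX : Cfsg.Geo.quadSimilarityGroup (⇑Q) ⊓ Cfsg.Geo.specialLinear ι F ≤ M)
  (hMS : M ≤ Cfsg.Geo.specialLinear ι F) (hclean : Clean Q M)
include hQ

include h2 hX in
theorem hasSiegel : HasSiegel hQ M := fun hw ha => hX (eg_mem hQ h2 hw ha)

include hX hMS hclean in
/-- An element of the group which is a similitude on the orthogonal of a fixed singular vector is one everywhere. -/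
theorem similitude_of {w f : ι → F} (hw : Q w = 0) (hw0 : w ≠ 0) (hwf : polar ⇑Q w f = 1) (hf : Q f = 0)
    {m : GL ι F} (hm : m ∈ M) (hmw : (m : Matrix ι ι F) *ᵥ w = w) {κ : F} (hκ : κ ≠ 0)
    (hρ : ∀ x, polar ⇑Q w ((m : Matrix ι ι F) *ᵥ x) = κ * polar ⇑Q w x)
    (hperp : ∀ x, polar ⇑Q w x = 0 → Q ((m : Matrix ι ι F) *ᵥ x) = κ * Q x) :
    ∀ x, Q ((m : Matrix ι ι F) *ᵥ x) = κ * Q x := by
  set G := (m : Matrix ι ι F) with hG
  set φ := vec Q (G *ᵥ f) ᵥ* G - κ • vec Q f - Q (G *ᵥ f) • vec Q w with hφdef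
  have hφ : ∀ x, φ ⬝ᵥ x = polar ⇑Q (G *ᵥ f) (G *ᵥ x) - κ * polar ⇑Q f x - Q (G *ᵥ f) * polar ⇑Q w x := fun x => by
    rw [hφdef, sub_dotProduct, sub_dotProduct, smul_dotProduct, smul_dotProduct, ← Matrix.dotProduct_mulVec,
      vec_dot, vec_dot, vec_dot, smul_eq_mul, smul_eq_mul]
  have hD : ∀ x, Q (G *ᵥ x) = κ * Q x + polar ⇑Q w x * φ ⬝ᵥ x := by
    intro x
    set t := polar ⇑Q w x
    have h1 := hperp (x + (-t) • f) (by rw [QuadraticMap.polar_add_right, polar_smul_right', hwf]; ring)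
    rw [Matrix.mulVec_add, Matrix.mulVec_smul, apply_add, apply_add, apply_smul, apply_smul, hf,
      polar_smul_right', polar_smul_right', QuadraticMap.polar_comm (⇑Q) (G *ᵥ x),
      QuadraticMap.polar_comm (⇑Q) x f] at h1
    rw [hφ]
    linear_combination h1
  have hφw : φ ⬝ᵥ w = 0 := by
    rw [hφ, hmw, QuadraticMap.polar_comm (⇑Q) (G *ᵥ f) w, hρ, hwf, QuadraticMap.polar_comm (⇑Q) f w, hwf,
      polar_self_zero hw]
    ring
  have hd : (-κ⁻¹ • φ) ⬝ᵥ w = 0 := by rw [smul_dotProduct, hφw, smul_zero]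
  set σ := transvectionGL (-κ⁻¹ • φ) w hd with hσ
  have hmσ : m * σ ∈ M := hX ⟨⟨Units.mk0 κ hκ, fun x => by
    rw [Units.val_mul, ← Matrix.mulVec_mulVec, hσ, transvectionGL_mulVec, Matrix.mulVec_add, Matrix.mulVec_smul,
      hmw, apply_add, apply_smul, hw, polar_smul_right', smul_dotProduct, smul_eq_mul, QuadraticMap.polar_comm,
      hρ, hD x, Units.val_mk0]
    field_simp
    ring⟩, Subgroup.mul_mem _ (hMS hm) (transvectionGL_mem_specialLinear _ _ hd)⟩
  have hroot : Root M (-κ⁻¹ • φ) w := ⟨hd, (Subgroup.mul_mem_cancel_left M hm).1 hmσ⟩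
  have hφ0 : φ = 0 := (smul_eq_zero.1 (hclean w hw hw0 _ hroot)).resolve_left (neg_ne_zero.2 (inv_ne_zero hκ))
  intro x
  rw [hD x, hφ0, zero_dotProduct, mul_zero, add_zero]

include h2 hX hMS hclean in
/-- An element fixing a singular vector and its orthogonal is a similitude. -/
theorem similitude_of_perp {w : ι → F} (hw : Q w = 0) (hw0 : w ≠ 0) {m : GL ι F} (hm : m ∈ M)
    (hmw : (m : Matrix ι ι F) *ᵥ w = w) {ρ : F} (hρ0 : ρ ≠ 0)
    (hρ : ∀ x, polar ⇑Q w ((m : Matrix ι ι F) *ᵥ x) = ρ * polar ⇑Q w x) :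
    ∀ x, Q ((m : Matrix ι ι F) *ᵥ x) = ρ * Q x := by
  obtain ⟨f, hf, hwf⟩ := exists_mate hQ hw hw0
  set G := (m : Matrix ι ι F) with hG
  set gi := ((m⁻¹ : GL ι F) : Matrix ι ι F) with hgi
  have hgig : ∀ x, gi *ᵥ (G *ᵥ x) = x := fun x => by
    rw [Matrix.mulVec_mulVec, Units.inv_mul, Matrix.one_mulVec]
  have hggi : ∀ x, G *ᵥ (gi *ᵥ x) = x := fun x => by
    rw [Matrix.mulVec_mulVec, Units.mul_inv, Matrix.one_mulVec]
  refine similitude_of hQ hX hMS hclean hw hw0 hwf hf hm hmw hρ0 hρ fun a ha => ?_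
  have hS : HasSiegel hQ M := hasSiegel hQ h2 hX
  set τ := m * eg hQ hw ha * m⁻¹ with hτ
  have hτm : τ ∈ M := M.mul_mem (M.mul_mem hm (hS hw ha)) (M.inv_mem hm)
  have hτv : ∀ x, (τ : Matrix ι ι F) *ᵥ x = G *ᵥ ((eg hQ hw ha : Matrix ι ι F) *ᵥ (gi *ᵥ x)) := fun x => by
    rw [hτ, Units.val_mul, Units.val_mul, ← Matrix.mulVec_mulVec, ← Matrix.mulVec_mulVec]
  have hgiw : gi *ᵥ w = w := by conv_lhs => rw [← hmw]; rw [hgig]
  have hew : ∀ x, polar ⇑Q w ((eg hQ hw ha : Matrix ι ι F) *ᵥ x) = polar ⇑Q w x := fun x => by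
    have h := eg_polar hQ hw ha w x
    rwa [eg_fix] at h
  have hperp : ∀ x, polar ⇑Q w x = 0 → polar ⇑Q w (gi *ᵥ x) = 0 := fun x hx => by
    have := hρ (gi *ᵥ x)
    rw [hggi, hx] at this
    exact (mul_eq_zero.1 this.symm).resolve_left hρ0
  have hiso := similitude_of hQ hX hMS hclean hw hw0 hwf hf hτm (by rw [hτv, hgiw, eg_fix hQ hw ha, hmw])
    one_ne_zero (fun x => by
      rw [hτv, hρ, hew, one_mul, ← hρ, hggi])
    (fun x hx => by
      rw [hτv, eg_mulVec, QuadraticMap.polar_comm (⇑Q) _ w, hperp x hx, mul_zero, sub_zero, neg_zero, zero_smul,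
        add_zero, Matrix.mulVec_add, Matrix.mulVec_smul, hggi, hmw, apply_add, apply_smul, hw, polar_smul_right',
        show polar ⇑Q x w = 0 from (QuadraticMap.polar_comm _ _ _).trans hx]
      ring)
  have hpol : ∀ x y, polar ⇑Q ((τ : Matrix ι ι F) *ᵥ x) ((τ : Matrix ι ι F) *ᵥ y) = polar ⇑Q x y := fun x y => by
    simp only [polar, ← Matrix.mulVec_add, hiso, one_mul]
  have h1 := hpol (G *ᵥ a) (G *ᵥ f)
  rw [hτv, hτv, hgig, hgig, eg_mulVec, eg_mulVec, polar_self_two, QuadraticMap.polar_comm (⇑Q) a w, ha,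
    QuadraticMap.polar_comm (⇑Q) f w, hwf] at h1
  simp only [Matrix.mulVec_add, Matrix.mulVec_smul, hmw, QuadraticMap.polar_add_left, QuadraticMap.polar_add_right,
    QuadraticMap.polar_smul_left, QuadraticMap.polar_smul_right, smul_eq_mul, polar_self_zero hw] at h1
  have e1 : polar ⇑Q w (G *ᵥ a) = 0 := by rw [hρ, ha, mul_zero]
  have e2 : polar ⇑Q (G *ᵥ a) w = 0 := by rw [QuadraticMap.polar_comm]; exact e1
  have e3 : polar ⇑Q w (G *ᵥ f) = ρ := by rw [hρ, hwf, mul_one]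
  rw [e1, e2, e3, polar_self_two] at h1
  exact mul_left_cancel₀ h2 (by linear_combination -h1)

include hι in
/-- A unipotent isometry fixing a singular vector and its orthogonal is trivial on the quotient. -/
theorem unipotent_mem_span {w : ι → F} (hw : Q w = 0) (hw0 : w ≠ 0) (h2 : (2 : F) ≠ 0) {G : Matrix ι ι F}
    (hG : ∀ x, Q (G *ᵥ x) = Q x) (hGw : G *ᵥ w = w) {x : ι → F} (hx : polar ⇑Q w x = 0)
    (hN : G *ᵥ (G *ᵥ x - x) - (G *ᵥ x - x) ∈ Submodule.span F {w}) : G *ᵥ x - x ∈ Submodule.span F {w} := by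
  set y := G *ᵥ x - x with hy
  have hpol : ∀ a b, polar ⇑Q (G *ᵥ a) (G *ᵥ b) = polar ⇑Q a b := fun a b => by
    simp only [polar, ← Matrix.mulVec_add, hG]
  have hwy : polar ⇑Q w y = 0 := by
    rw [hy, QuadraticMap.polar_sub_right, hx, sub_zero, ← hGw, hpol, hx]
  obtain ⟨c, hc⟩ := Submodule.mem_span_singleton.1 hN
  have hGy : G *ᵥ y = y + c • w := by rw [hc]; abel
  have hGx : G *ᵥ x = x + y := by rw [hy]; abel
  have h1 := hpol x y
  rw [hGy, hGx] at h1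
  simp only [QuadraticMap.polar_add_left, QuadraticMap.polar_add_right, polar_smul_right',
    QuadraticMap.polar_comm (⇑Q) x w, hx, QuadraticMap.polar_comm (⇑Q) y w, hwy, polar_self_two] at h1
  have hqy : Q y = 0 := mul_left_cancel₀ h2 (by linear_combination h1)
  have hxy : polar ⇑Q x y = 0 := by
    have h3 := hG x
    rw [hGx, apply_add, hqy] at h3
    linear_combination h3
  by_cases hind : ∀ k : F, y ≠ k • w
  · obtain ⟨α, β, hαβ⟩ := Submodule.mem_span_pair.1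
      (mem_plane hQ hι hw hqy hwy hw0 hind hx ((QuadraticMap.polar_comm _ _ _).trans hxy))
    refine Submodule.mem_span_singleton.2 ⟨β * c, ?_⟩
    rw [hy, ← hαβ, Matrix.mulVec_add, Matrix.mulVec_smul, Matrix.mulVec_smul, hGw, hGy]
    module
  · push Not at hind
    obtain ⟨k, hk⟩ := hind
    exact Submodule.mem_span_singleton.2 ⟨k, hk.symm⟩

include h2 hι hX hMS hclean in
theorem perp_stable {w : ι → F} (hw : Q w = 0) (hw0 : w ≠ 0) {n : GL ι F} (hn : n ∈ M)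
    (hnw : (n : Matrix ι ι F) *ᵥ w = w) {y : ι → F} (hy : polar ⇑Q w y = 0) :
    polar ⇑Q w (((n⁻¹ : GL ι F) : Matrix ι ι F) *ᵥ y) = 0 := by
  obtain ⟨f, hf, hwf⟩ := exists_mate hQ hw hw0
  set G := (n : Matrix ι ι F) with hG
  set gi := ((n⁻¹ : GL ι F) : Matrix ι ι F) with hgi
  have hgig : ∀ x, gi *ᵥ (G *ᵥ x) = x := fun x => by
    rw [Matrix.mulVec_mulVec, Units.inv_mul, Matrix.one_mulVec]
  have hggi : ∀ x, G *ᵥ (gi *ᵥ x) = x := fun x => by
    rw [Matrix.mulVec_mulVec, Units.mul_inv, Matrix.one_mulVec]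
  have hgiw : gi *ᵥ w = w := by conv_lhs => rw [← hnw]; rw [hgig]
  -- a vector of the complement whose image stays orthogonal
  obtain ⟨a, ha, ha0⟩ : ∃ a, (a ∈ comp Q w f ∧ polar ⇑Q w (G *ᵥ a) = 0) ∧ a ≠ 0 := by
    obtain ⟨a, ha, ha0⟩ := Submodule.exists_mem_ne_zero_of_ne_bot
      (p := comp Q w f ⊓ LinearMap.ker ((polarBilin Q w).comp (Matrix.toLin' G))) fun e => by
      have h1 := Submodule.finrank_sup_add_finrank_inf_eq (comp Q w f)
        (LinearMap.ker ((polarBilin Q w).comp (Matrix.toLin' G)))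
      have h3 := LinearMap.finrank_range_add_finrank_ker ((polarBilin Q w).comp (Matrix.toLin' G))
      have h4 := Submodule.finrank_le (LinearMap.range ((polarBilin Q w).comp (Matrix.toLin' G)))
      have h5 := Submodule.finrank_le (comp Q w f ⊔ LinearMap.ker ((polarBilin Q w).comp (Matrix.toLin' G)))
      have h6 := two_le_finrank_comp (Q := Q) hι w f
      rw [Module.finrank_self] at h4
      rw [Module.finrank_pi, hι] at h3 h5
      rw [e, finrank_bot] at h1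
      omega
    exact ⟨a, ⟨ha.1, by simpa using ha.2⟩, ha0⟩
  obtain ⟨ha, hna⟩ := ha
  have hwa := (mem_comp.1 ha).1
  have hnaind : G *ᵥ a ∉ Submodule.span F {w} := fun h => by
    obtain ⟨c, hc⟩ := Submodule.mem_span_singleton.1 h
    have e : a = c • w := by rw [← hgig a, ← hc, Matrix.mulVec_smul, hgiw]
    have := (mem_comp.1 ha).2
    rw [e, polar_smul_right', QuadraticMap.polar_comm, hwf, mul_one] at this
    exact ha0 (by rw [e, this, zero_smul])
  set τ := n * eg hQ hw hwa * n⁻¹ with hτ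
  have hτm : τ ∈ M := M.mul_mem (M.mul_mem hn (hasSiegel hQ h2 hX hw hwa)) (M.inv_mem hn)
  have hτv : ∀ x, (τ : Matrix ι ι F) *ᵥ x =
      x + (polar ⇑Q (gi *ᵥ x) a - Q a * polar ⇑Q (gi *ᵥ x) w) • w + (-polar ⇑Q (gi *ᵥ x) w) • (G *ᵥ a) := fun x => by
    rw [hτ, Units.val_mul, Units.val_mul, ← Matrix.mulVec_mulVec, ← Matrix.mulVec_mulVec, eg_mulVec,
      Matrix.mulVec_add, Matrix.mulVec_add, Matrix.mulVec_smul, Matrix.mulVec_smul, hggi, hnw]
  have hiso := similitude_of_perp hQ h2 hX hMS hclean hw hw0 hτm (by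
      rw [hτv, hgiw, hwa, polar_self_zero hw]
      module) one_ne_zero (fun x => by
      rw [hτv]
      simp only [QuadraticMap.polar_add_right, polar_smul_right', polar_self_zero hw, hna]
      ring)
  have hN : (τ : Matrix ι ι F) *ᵥ y - y =
      (polar ⇑Q (gi *ᵥ y) a - Q a * polar ⇑Q (gi *ᵥ y) w) • w + (-polar ⇑Q (gi *ᵥ y) w) • (G *ᵥ a) := by
    rw [hτv]; abel
  have key := unipotent_mem_span hQ hι hw hw0 h2 (G := (τ : Matrix ι ι F)) (fun x => by rw [hiso, one_mul])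
    (by rw [hτv, hgiw, hwa, polar_self_zero hw]; module) hy ?_
  swap
  · refine Submodule.mem_span_singleton.2 ⟨(-polar ⇑Q (gi *ᵥ y) w) * polar ⇑Q a a, ?_⟩
    rw [hN, Matrix.mulVec_add, Matrix.mulVec_smul, Matrix.mulVec_smul, hτv w, hτv (G *ᵥ a), hgiw, hgig,
      polar_self_zero hw, hwa, QuadraticMap.polar_comm (⇑Q) a w, hwa]
    module
  rw [hN, Submodule.add_mem_iff_right _ (Submodule.smul_mem _ _ (Submodule.mem_span_singleton_self w))] at key
  by_contra hne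
  exact hnaind ((Submodule.smul_mem_iff _ (neg_ne_zero.2 (by rwa [QuadraticMap.polar_comm]))).1 key)

include h2 hι hX hMS hclean in
/-- The stabiliser of a singular vector consists of similitudes. -/
theorem stab_similitude {w : ι → F} (hw : Q w = 0) (hw0 : w ≠ 0) {m : GL ι F} (hm : m ∈ M)
    (hmw : (m : Matrix ι ι F) *ᵥ w = w) :
    ∃ ρ : F, ρ ≠ 0 ∧ (∀ x, polar ⇑Q w ((m : Matrix ι ι F) *ᵥ x) = ρ * polar ⇑Q w x) ∧
      ∀ x, Q ((m : Matrix ι ι F) *ᵥ x) = ρ * Q x := by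
  obtain ⟨f, hf, hwf⟩ := exists_mate hQ hw hw0
  set G := (m : Matrix ι ι F) with hG
  have hker : ∀ y, polar ⇑Q w y = 0 → polar ⇑Q w (G *ᵥ y) = 0 := fun y hy => by
    have := perp_stable hQ h2 hι hX hMS hclean hw hw0 (M.inv_mem hm)
      (by conv_lhs => rw [← hmw]; rw [Matrix.mulVec_mulVec, Units.inv_mul, Matrix.one_mulVec]) hy
    rwa [inv_inv] at this
  have hρ : ∀ x, polar ⇑Q w (G *ᵥ x) = polar ⇑Q w (G *ᵥ f) * polar ⇑Q w x := fun x => by
    have h1 := hker (x - polar ⇑Q w x • f) (by rw [QuadraticMap.polar_sub_right, polar_smul_right', hwf]; ring)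
    rw [Matrix.mulVec_sub, Matrix.mulVec_smul, QuadraticMap.polar_sub_right, polar_smul_right', sub_eq_zero] at h1
    rw [h1]; ring
  have hρ0 : polar ⇑Q w (G *ᵥ f) ≠ 0 := fun e => by
    refine hw0 (hQ.1 w fun x => ?_)
    have h1 := hρ (((m⁻¹ : GL ι F) : Matrix ι ι F) *ᵥ x)
    rw [Matrix.mulVec_mulVec, Units.mul_inv, Matrix.one_mulVec, e, zero_mul] at h1
    exact h1
  exact ⟨_, hρ0, hρ, similitude_of_perp hQ h2 hX hMS hclean hw hw0 hm hmw hρ0 hρ⟩

include h2 hι hX hMS hclean in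
/-- The Siegel group acts semiregularly on non-singular images of a singular vector. -/
theorem semiregular {w f a : ι → F} (hw : Q w = 0) (hw0 : w ≠ 0) (hwf : polar ⇑Q w f = 1) (ha : a ∈ comp Q w f)
    (ha0 : a ≠ 0) {m : GL ι F} (hm : m ∈ M) (hmw : Q ((m : Matrix ι ι F) *ᵥ w) ≠ 0)
    (hfix : (eg hQ hw (mem_comp.1 ha).1 : Matrix ι ι F) *ᵥ ((m : Matrix ι ι F) *ᵥ w) = (m : Matrix ι ι F) *ᵥ w) :
    False := by
  have hwa := (mem_comp.1 ha).1
  set G := (m : Matrix ι ι F) with hG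
  set x := G *ᵥ w with hx
  have hind : ∀ c : F, a ≠ c • w := fun c e => by
    have := (mem_comp.1 ha).2
    rw [e, polar_smul_right', QuadraticMap.polar_comm, hwf, mul_one] at this
    exact ha0 (by rw [e, this, zero_smul])
  by_cases hqa : Q a = 0
  · rw [eg_mulVec, hqa, zero_mul, sub_zero, add_assoc, add_eq_left] at hfix
    have hxw : polar ⇑Q x w = 0 := by
      by_contra hne
      refine hind (polar ⇑Q x a / polar ⇑Q x w) ?_
      rw [neg_smul, ← sub_eq_add_neg, sub_eq_zero] at hfix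
      rw [div_eq_inv_mul, mul_smul, hfix, inv_smul_smul₀ hne]
    rw [hxw, neg_zero, zero_smul, add_zero, smul_eq_zero, or_iff_left hw0] at hfix
    obtain ⟨α, β, e⟩ := Submodule.mem_span_pair.1 (mem_plane hQ hι hw hqa hwa hw0 hind
      ((QuadraticMap.polar_comm _ _ _).trans hxw) ((QuadraticMap.polar_comm _ _ _).trans hfix))
    refine hmw ?_
    rw [← e, apply_add, apply_smul, apply_smul, hw, hqa, polar_smul_left', polar_smul_right', hwa]
    ring
  set E := eg hQ hw hwa with hE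
  set v := m⁻¹ * E * m with hv
  have hvm : v ∈ M := M.mul_mem (M.mul_mem (M.inv_mem hm) (hasSiegel hQ h2 hX hw hwa)) hm
  set gi := ((m⁻¹ : GL ι F) : Matrix ι ι F) with hgi
  have hgig : ∀ x, gi *ᵥ (G *ᵥ x) = x := fun x => by
    rw [Matrix.mulVec_mulVec, Units.inv_mul, Matrix.one_mulVec]
  have hggi : ∀ x, G *ᵥ (gi *ᵥ x) = x := fun x => by
    rw [Matrix.mulVec_mulVec, Units.mul_inv, Matrix.one_mulVec]
  have hvv : ∀ z, (v : Matrix ι ι F) *ᵥ z = gi *ᵥ ((E : Matrix ι ι F) *ᵥ (G *ᵥ z)) := fun z => by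
    rw [hv, Units.val_mul, Units.val_mul, ← Matrix.mulVec_mulVec, ← Matrix.mulVec_mulVec]
  have hvw : (v : Matrix ι ι F) *ᵥ w = w := by rw [hvv, hfix, hgig]
  set V := (v : Matrix ι ι F) with hV
  have hN : ∀ z, V *ᵥ z - z = gi *ᵥ ((E : Matrix ι ι F) *ᵥ (G *ᵥ z) - G *ᵥ z) := fun z => by
    rw [Matrix.mulVec_sub, hgig, hvv]
  have hEN : ∀ z, (E : Matrix ι ι F) *ᵥ z - z =
      (polar ⇑Q z a - Q a * polar ⇑Q z w) • w + (-polar ⇑Q z w) • a := fun z => by
    rw [hE, eg_mulVec]; abel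
  have hNlin : ∀ (c : F) z, V *ᵥ (c • z) - c • z = c • (V *ᵥ z - z) := fun c z => by
    rw [Matrix.mulVec_smul, smul_sub]
  have hN2 : ∀ z, V *ᵥ (V *ᵥ z - z) - (V *ᵥ z - z) = (-polar ⇑Q (G *ᵥ z) w * polar ⇑Q a a) • (gi *ᵥ w) := fun z => by
    rw [hN, hN, hggi, hEN, hEN, ← Matrix.mulVec_smul]
    congr 1
    simp only [QuadraticMap.polar_add_left, QuadraticMap.polar_smul_left, smul_eq_mul, hwa, polar_self_zero hw,
      QuadraticMap.polar_comm (⇑Q) a w]
    module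
  have hgiw : V *ᵥ (gi *ᵥ w) - gi *ᵥ w = 0 := by
    rw [hN, hggi, hE, eg_fix, sub_self, Matrix.mulVec_zero]
  obtain ⟨ρ, -, hρ, hsim⟩ := stab_similitude hQ h2 hι hX hMS hclean hw hw0 hvm hvw
  -- the multiplier is one
  have hρ1 : ρ = 1 := by
    have h3 : V *ᵥ (V *ᵥ (V *ᵥ f - f) - (V *ᵥ f - f)) - (V *ᵥ (V *ᵥ f - f) - (V *ᵥ f - f)) = 0 := by
      rw [hN2 f, hNlin, hgiw, smul_zero]
    have h4 := congrArg (polar ⇑Q w) h3
    have hρ' : ∀ x, polar ⇑Q w (V *ᵥ x) = ρ * polar ⇑Q w x := hρ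
    simp only [Matrix.mulVec_sub, QuadraticMap.polar_sub_right, hρ', hwf, QuadraticMap.polar_zero_right] at h4
    have h5 : (ρ - 1) ^ 3 = 0 := by linear_combination h4
    exact sub_eq_zero.1 ((pow_eq_zero_iff (by norm_num)).1 h5)
  have hiso : ∀ z, Q (V *ᵥ z) = Q z := fun z => by rw [hsim, hρ1, one_mul]
  have hquot : ∀ y, polar ⇑Q w y = 0 → V *ᵥ y - y ∈ Submodule.span F {w} := fun y hy => by
    have hy1 : polar ⇑Q w (V *ᵥ y - y) = 0 := by rw [QuadraticMap.polar_sub_right, hρ, hy, mul_zero, sub_zero]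
    refine unipotent_mem_span hQ hι hw hw0 h2 hiso hvw hy ?_
    refine unipotent_mem_span hQ hι hw hw0 h2 hiso hvw hy1 ?_
    rw [hN2 y, hNlin, hgiw, smul_zero]
    exact zero_mem _
  set z := gi *ᵥ f
  have hz1 : polar ⇑Q w (V *ᵥ z - z) = 0 := by
    rw [QuadraticMap.polar_sub_right, hρ, hρ1, one_mul, sub_self]
  have h6 := hquot _ hz1
  rw [hN2, hggi, QuadraticMap.polar_comm (⇑Q) f w, hwf, polar_self_two] at h6
  obtain ⟨c, hc⟩ := Submodule.mem_span_singleton.1 ((Submodule.smul_mem_iff _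
    (mul_ne_zero (neg_ne_zero.2 one_ne_zero) (mul_ne_zero h2 hqa))).1 h6)
  have hc0 : c ≠ 0 := fun e => hw0 (by
    rw [e, zero_smul] at hc
    rw [← hggi w, ← hc, Matrix.mulVec_zero])
  refine hmw ?_
  have e : w = c • x := by rw [hx, ← Matrix.mulVec_smul, hc, hggi]
  have h7 := congrArg Q e
  rw [hw, apply_smul] at h7
  exact (mul_eq_zero.1 h7.symm).resolve_left (mul_ne_zero hc0 hc0)

end CfsgLib.Geo.SLFour.Quad
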