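/-
Orthogonal similitude groups are maximal in SL(4) in odd characteristic.
-/
import Cfsg.Agent.Lib.Geo.SLFour.QuadStab

set_option autoImplicit false

namespace CfsgLib.Geo.SLFour.Quad

open Matrix CfsgLib.Classical CfsgLib.Classical.Quad CfsgLib.Geo.Roots CfsgLib.Geo.OrthMax CfsgLib.Geo.QuadSim
open QuadraticMap (polar polarBilin)

variable {ι : Type} [Fintype ι] [DecidableEq ι] {F : Type*} [Field F]

omit [Fintype ι] [DecidableEq ι] [Field F] in
/-- Orbit lengths divide when the point stabilisers of the larger group lie in the smaller one. -/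
theorem orbit_dvd {G α : Type*} [Group G] [Finite G] (ρ : G →* Equiv.Perm α) {X M : Subgroup G} (h : X ≤ M) (x : α)
    (hstab : ∀ m ∈ M, ρ m x = x → m ∈ X) :
    {y | ∃ m ∈ X, ρ m x = y}.ncard ∣ {y | ∃ m ∈ M, ρ m x = y}.ncard := by
  letI : MulAction G α := MulAction.compHom α ρ
  have horb : ∀ K : Subgroup G, {y | ∃ m ∈ K, ρ m x = y} = MulAction.orbit K x := fun K => by
    ext y
    exact ⟨fun ⟨m, hm, e⟩ => ⟨⟨m, hm⟩, e⟩, fun ⟨⟨m, hm⟩, e⟩ => ⟨m, hm, e⟩⟩
  rw [horb, horb, ← MulAction.index_stabilizer, ← MulAction.index_stabilizer]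
  have hs : Nat.card (MulAction.stabilizer X x) = Nat.card (MulAction.stabilizer M x) :=
    Nat.card_congr ⟨fun s => ⟨⟨s.1.1, h s.1.2⟩, s.2⟩, fun s => ⟨⟨s.1.1, hstab _ s.1.2 s.2⟩, s.2⟩,
      fun s => rfl, fun s => rfl⟩
  have h1 := Subgroup.card_dvd_of_le h
  rw [← Subgroup.index_mul_card (MulAction.stabilizer X x), ← Subgroup.index_mul_card (MulAction.stabilizer M x),
    hs] at h1
  exact Nat.dvd_of_mul_dvd_mul_right Nat.card_pos h1

omit [Fintype ι] [DecidableEq ι] [Field F] in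
/-- A semiregular group divides the size of an invariant set. -/
theorem card_dvd_of_free {G α : Type*} [Group G] (ρ : G →* Equiv.Perm α) {S : Set α}
    (hinv : ∀ g, ∀ x ∈ S, ρ g x ∈ S) (hfree : ∀ g, ∀ x ∈ S, ρ g x = x → g = 1) : Nat.card G ∣ S.ncard := by
  letI : MulAction G α := MulAction.compHom α ρ
  let T : SubMulAction G α := { carrier := S, smul_mem' := fun g x hx => hinv g x hx }
  have h : ∀ x : T, MulAction.stabilizer G x = ⊥ := fun x =>
    (Subgroup.eq_bot_iff_forall _).2 fun g hg => hfree g x x.2 (congrArg Subtype.val hg)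
  let e₁ := MulAction.selfEquivSigmaOrbitsQuotientStabilizer G T
  let e₂ : ∀ ω : Quotient (MulAction.orbitRel G T), G ⧸ MulAction.stabilizer G ω.out ≃ G := fun ω =>
    (Subgroup.quotientEquivOfEq (h ω.out)).trans QuotientGroup.quotientBot.toEquiv
  let e₃ : T ≃ Quotient (MulAction.orbitRel G T) × G :=
    e₁.trans ((Equiv.sigmaCongrRight e₂).trans (Equiv.sigmaEquivProd _ _))
  refine ⟨Nat.card (Quotient (MulAction.orbitRel G T)), ?_⟩
  rw [← Nat.card_coe_set_eq, mul_comm, ← Nat.card_prod]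
  exact Nat.card_congr e₃

omit [Fintype ι] [DecidableEq ι] [Field F] in
/-- The fixed point congruence of a `p`-group on an invariant set. -/
theorem card_modEq_fixed {p : ℕ} [Fact p.Prime] {G α : Type*} [Group G] [Finite α] (hG : IsPGroup p G)
    (ρ : G →* Equiv.Perm α) {S : Set α} (hinv : ∀ g, ∀ x ∈ S, ρ g x ∈ S) :
    S.ncard ≡ {x | x ∈ S ∧ ∀ g, ρ g x = x}.ncard [MOD p] := by
  letI : MulAction G α := MulAction.compHom α ρ
  let T : SubMulAction G α := { carrier := S, smul_mem' := fun g x hx => hinv g x hx }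
  have h := hG.card_modEq_card_fixedPoints T
  rw [← Nat.card_coe_set_eq S, ← Nat.card_coe_set_eq {x | x ∈ S ∧ ∀ g, ρ g x = x}]
  refine h.trans (congrArg (· % p) (Nat.card_congr ?_))
  exact ⟨fun x => ⟨x.1.1, x.1.2, fun g => congrArg Subtype.val (x.2 g)⟩,
    fun x => ⟨⟨x.1, x.2.1⟩, fun g => Subtype.ext (x.2.2 g)⟩, fun x => rfl, fun x => rfl⟩

/-- Matrices as permutations of the vectors. -/
def perm : GL ι F →* Equiv.Perm (ι → F) where
  toFun g := ⟨fun x => (g : Matrix ι ι F) *ᵥ x, fun x => ((g⁻¹ : GL ι F) : Matrix ι ι F) *ᵥ x,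
    fun x => by simp [Matrix.mulVec_mulVec],
    fun x => by simp [Matrix.mulVec_mulVec]⟩
  map_one' := Equiv.ext fun x => by simp
  map_mul' g h := Equiv.ext fun x => by simp [Matrix.mulVec_mulVec]

theorem perm_apply (g : GL ι F) (x : ι → F) : perm g x = (g : Matrix ι ι F) *ᵥ x := rfl

variable {Q : QuadraticForm F (ι → F)} (hQ : (polarBilin Q).Nondegenerate) (h2 : (2 : F) ≠ 0)
  (hι : Fintype.card ι = 4) {M : Subgroup (GL ι F)}
  (hX : Cfsg.Geo.quadSimilarityGroup (⇑Q) ⊓ Cfsg.Geo.specialLinear ι F ≤ M)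
  (hMS : M ≤ Cfsg.Geo.specialLinear ι F) (hclean : Clean Q M) [Finite F]
include hQ

omit [Finite F] in
/-- The Siegel elements at one singular vector, as a homomorphism from the complement. -/
theorem exists_siegelHom {w f : ι → F} (hw : Q w = 0) :
    ∃ ψ : Multiplicative ↥(comp Q w f) →* GL ι F,
      ∀ a, ψ a = eg hQ hw (mem_comp.1 (Multiplicative.toAdd a).2).1 := by
  refine ⟨{ toFun := fun a => eg hQ hw (mem_comp.1 (Multiplicative.toAdd a).2).1, map_one' := ?_, map_mul' := ?_ },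
    fun a => rfl⟩
  · refine ext_mulVec fun z => ?_
    simp [eg_mulVec]
  · intro a b
    exact (eg_mul hQ hw _ _ _).symm

include h2 hι hX hMS hclean in
/-- The group preserves the singular vectors. -/
theorem singular_image {w : ι → F} (hw : Q w = 0) (hw0 : w ≠ 0) {g : GL ι F} (hg : g ∈ M) :
    Q ((g : Matrix ι ι F) *ᵥ w) = 0 := by
  classical
  haveI : Fintype F := Fintype.ofFinite F
  haveI : Finite (GL ι F) := Finite.of_injective _ Units.val_injective
  obtain ⟨f, hf, hwf⟩ := exists_mate hQ hw hw0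
  set X := Cfsg.Geo.quadSimilarityGroup (⇑Q) ⊓ Cfsg.Geo.specialLinear ι F with hXdef
  have hSX : HasSiegel hQ X := fun hw ha => eg_mem hQ h2 hw ha
  set S0 : Set (ι → F) := {x | Q x = 0 ∧ x ≠ 0} with hS0
  have hinj : ∀ (m : GL ι F) (x : ι → F), (m : Matrix ι ι F) *ᵥ x = 0 → x = 0 := fun m x e =>
    Matrix.mulVec_injective_iff_isUnit.2 m.isUnit
      (show (m : Matrix ι ι F) *ᵥ x = (m : Matrix ι ι F) *ᵥ 0 by rw [Matrix.mulVec_zero]; exact e)
  have horbX : {y | ∃ m ∈ X, perm m w = y} = S0 := by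
    ext x
    constructor
    · rintro ⟨m, hm, rfl⟩
      obtain ⟨c, hc⟩ := hm.1
      exact ⟨show Q ((m : Matrix ι ι F) *ᵥ w) = 0 by rw [hc, hw, mul_zero], fun e => hw0 (hinj m w e)⟩
    · rintro ⟨hx, hx0⟩
      obtain ⟨m, hm, e⟩ := transitive hQ h2 hι hSX hw hx hw0 hx0
      exact ⟨m, hm, e⟩
  set O' := {y | ∃ m ∈ M, perm m w = y} with hO'
  have hS0O : S0 ⊆ O' := fun x hx => by
    rw [← horbX] at hx
    obtain ⟨m, hm, rfl⟩ := hx
    exact ⟨m, hX hm, rfl⟩
  have hdvd : S0.ncard ∣ O'.ncard := by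
    rw [← horbX]
    refine orbit_dvd perm hX w fun m hm e => ⟨?_, hMS hm⟩
    obtain ⟨ρ, hρ0, -, hρ⟩ := stab_similitude hQ h2 hι hX hMS hclean hw hw0 hm e
    exact ⟨Units.mk0 ρ hρ0, hρ⟩
  -- the Siegel group
  obtain ⟨ψ, hψ⟩ := exists_siegelHom hQ (f := f) hw
  set π := perm.comp ψ with hπ
  have hact : ∀ (a : Multiplicative ↥(comp Q w f)) (x : ι → F),
      π a x = ((ψ a : GL ι F) : Matrix ι ι F) *ᵥ x := fun _ _ => rfl
  have hψM : ∀ a, ψ a ∈ M := fun a => hψ a ▸ hasSiegel hQ h2 hX hw _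
  have hQinv : ∀ a x, Q (π a x) = Q x := fun a x => by rw [hact, hψ, eg_isometry]
  have hinvS : ∀ a, ∀ x ∈ S0, π a x ∈ S0 := fun a x hx =>
    ⟨(hQinv a x).trans hx.1, fun e => hx.2 (hinj (ψ a) x e)⟩
  have hinvT : ∀ a, ∀ x ∈ O' \ S0, π a x ∈ O' \ S0 := by
    rintro a _ ⟨⟨m, hm, rfl⟩, hxS⟩
    refine ⟨⟨ψ a * m, M.mul_mem (hψM a) hm, ?_⟩, fun h => hxS ⟨(hQinv a _).symm.trans h.1, fun e => h.2 ?_⟩⟩
    · rw [hact, perm_apply, perm_apply, Units.val_mul, Matrix.mulVec_mulVec]
    · rw [e, hact, Matrix.mulVec_zero]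
  have hfree : ∀ a, ∀ x ∈ O' \ S0, π a x = x → a = 1 := by
    rintro a _ ⟨⟨m, hm, rfl⟩, hxS⟩ e
    by_contra hne
    refine semiregular hQ h2 hι hX hMS hclean hw hw0 hwf (Multiplicative.toAdd a).2
      (fun e => hne (Multiplicative.toAdd.injective (Subtype.ext e))) hm
      (fun e => hxS ⟨e, fun e' => hw0 (hinj m w e')⟩) ?_
    rw [← hψ]
    exact e
  have hd : Nat.card (Multiplicative ↥(comp Q w f)) = Fintype.card F ^ Module.finrank F ↥(comp Q w f) := by
    rw [Nat.card_congr Multiplicative.toAdd, Nat.card_eq_fintype_card, Module.card_eq_pow_finrank (K := F)]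
  have hT := card_dvd_of_free π hfree (hinv := hinvT)
  -- the Siegel group is a p-group with `q - 1` fixed singular vectors
  obtain ⟨n, hp, hq⟩ := FiniteField.card F (ringChar F)
  haveI : Fact (ringChar F).Prime := ⟨hp⟩
  have hpg : IsPGroup (ringChar F) (Multiplicative ↥(comp Q w f)) :=
    IsPGroup.of_card (n := n * Module.finrank F ↥(comp Q w f)) (by rw [hd, hq, ← pow_mul])
  obtain ⟨z, hz, hqz⟩ := exists_comp_value hQ hι hw hf hwf (c := 1) one_ne_zero
  have hfixed : {x | x ∈ S0 ∧ ∀ a, π a x = x}.ncard = Nat.card Fˣ := by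
    rw [← Nat.card_coe_set_eq]
    symm
    refine Nat.card_congr (Equiv.ofBijective (fun t => ⟨(t : F) • w,
      ⟨by rw [apply_smul, hw, mul_zero], smul_ne_zero t.ne_zero hw0⟩,
      fun a => by rw [hact, hψ, Matrix.mulVec_smul, eg_fix]⟩) ⟨fun t t' e => ?_, ?_⟩)
    · exact Units.ext (smul_left_injective F hw0 (congrArg Subtype.val e))
    rintro ⟨x, hx, hfx⟩
    have hfx' : ∀ (b : ι → F) (hb : b ∈ comp Q w f),
        (eg hQ hw (mem_comp.1 hb).1 : Matrix ι ι F) *ᵥ x = x := fun b hb => by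
      have := hfx (Multiplicative.ofAdd ⟨b, hb⟩)
      rw [hact, hψ] at this
      exact this
    have hxw : polar ⇑Q x w = 0 := by
      have h1' := congrArg (polar ⇑Q z) (hfx' z hz)
      rw [eg_mulVec, QuadraticMap.polar_add_right, QuadraticMap.polar_add_right, polar_smul_right',
        polar_smul_right', QuadraticMap.polar_comm (⇑Q) z w, (mem_comp.1 hz).1, polar_self_two, hqz] at h1'
      exact (mul_eq_zero.1 (show (2 : F) * polar ⇑Q x w = 0 by linear_combination -h1')).resolve_left h2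
    have hxz : ∀ b ∈ comp Q w f, polar ⇑Q x b = 0 := fun b hb => by
      have h1 := hfx' b hb
      rw [eg_mulVec, hxw, mul_zero, sub_zero, neg_zero, zero_smul, add_zero, add_eq_left, smul_eq_zero,
        or_iff_left hw0] at h1
      exact h1
    have hxe : x = polar ⇑Q x f • w := eq_of_vec hQ fun y => by
      have h1 := hxz _ (sub_mem_comp hw hf hwf y)
      rw [QuadraticMap.polar_sub_right, QuadraticMap.polar_sub_right, polar_smul_right', polar_smul_right', hxw] at h1
      rw [polar_smul_left', QuadraticMap.polar_comm (⇑Q) w y]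
      linear_combination h1
    have hc : polar ⇑Q x f ≠ 0 := fun e => hx.2 (by rw [hxe, e, zero_smul])
    exact ⟨Units.mk0 _ hc, Subtype.ext hxe.symm⟩
  have hcong := card_modEq_fixed hpg π hinvS
  rw [hfixed, Nat.card_units, Nat.card_eq_fintype_card (α := F)] at hcong
  have hcop : S0.ncard.Coprime (ringChar F) := by
    refine (Nat.coprime_comm.1 (hp.coprime_iff_not_dvd.2 fun hdv => ?_))
    have h1 : Fintype.card F - 1 ≡ 0 [MOD ringChar F] := hcong.symm.trans (Nat.modEq_zero_iff_dvd.2 hdv)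
    have h3 : ringChar F ∣ Fintype.card F := hq ▸ dvd_pow_self _ (by simp)
    have h4 := Nat.dvd_sub h3 (Nat.modEq_zero_iff_dvd.1 h1)
    rw [Nat.sub_sub_self Fintype.card_pos] at h4
    exact hp.one_lt.ne' (Nat.dvd_one.1 h4)
  -- a lower bound for the singular vectors
  have hn0 : (Nat.card ↥(comp Q w f) + 1) * (Fintype.card F - 1) ≤ Nat.card S0 := by
    let φ : Option ↥(comp Q w f) × Fˣ → S0 := fun p => p.1.elim
      ⟨(p.2 : F) • w, by rw [apply_smul, hw, mul_zero], smul_ne_zero p.2.ne_zero hw0⟩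
      fun a => ⟨(eg hQ hw (mem_comp.1 a.2).1 : Matrix ι ι F) *ᵥ ((p.2 : F) • f),
        by rw [eg_isometry, apply_smul, hf, mul_zero], fun e => p.2.ne_zero (by
          have h1 := eg_polar hQ hw (mem_comp.1 a.2).1 w ((p.2 : F) • f)
          rw [e, QuadraticMap.polar_zero_right, polar_smul_right', hwf, mul_one] at h1
          exact h1.symm)⟩
    have hval : ∀ (a : ↥(comp Q w f)) (t : F), polar ⇑Q w ((eg hQ hw (mem_comp.1 a.2).1 : Matrix ι ι F) *ᵥ (t • f)) = t := fun a t => by
      have h1 := eg_polar hQ hw (mem_comp.1 a.2).1 w (t • f)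
      rwa [eg_fix, polar_smul_right', hwf, mul_one] at h1
    have hinj : Function.Injective φ := by
      rintro ⟨_ | a, t⟩ ⟨_ | b, s⟩ e <;> have e' := congrArg Subtype.val e <;> simp only [φ, Option.elim] at e'
      · rw [Units.ext (smul_left_injective F hw0 e')]
      · have := congrArg (polar ⇑Q w) e'
        rw [hval, polar_smul_right', polar_self_zero hw, mul_zero] at this
        exact absurd this.symm s.ne_zero
      · have := congrArg (polar ⇑Q w) e'
        rw [hval, polar_smul_right', polar_self_zero hw, mul_zero] at this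
        exact absurd this t.ne_zero
      · have hts : t = s := Units.ext (by simpa [hval] using congrArg (polar ⇑Q w) e')
        subst hts
        rw [Matrix.mulVec_smul, Matrix.mulVec_smul] at e'
        have e'' := smul_right_injective (ι → F) t.ne_zero e'
        simp only [eg_mulVec, QuadraticMap.polar_comm (⇑Q) f w, hwf] at e''
        have key : ∀ y ∈ comp Q w f, polar ⇑Q (a : ι → F) y = polar ⇑Q (b : ι → F) y := fun y hy => by
          have h1 := congrArg (fun x => polar ⇑Q x y) e''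
          simp only [QuadraticMap.polar_add_left, polar_smul_left', (mem_comp.1 hy).1, mul_zero, add_zero] at h1
          linear_combination -h1
        have hab : (a : ι → F) = b := sub_eq_zero.1 (nondeg_comp hQ hw hf hwf _ (Submodule.sub_mem _ a.2 b.2)
          fun y hy => by rw [QuadraticMap.polar_sub_left, key y hy, sub_self])
        rw [Subtype.ext hab]
    have := Nat.card_le_card_of_injective φ hinj
    rwa [Nat.card_prod, Finite.card_option, Nat.card_units, Nat.card_eq_fintype_card (α := F)] at this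
  -- count
  rw [Nat.card_coe_set_eq] at hn0
  have hsplit : O'.ncard = S0.ncard + (O' \ S0).ncard := by
    rw [← Set.ncard_union_eq disjoint_sdiff_self_right (Set.toFinite _) (Set.toFinite _),
      Set.union_sdiff_cancel hS0O]
  have hupper : O'.ncard ≤ Fintype.card F ^ 4 - 1 := by
    have h1 : O' ⊆ ({0}ᶜ : Set (ι → F)) := by
      rintro _ ⟨m, hm, rfl⟩ e
      exact hw0 (hinj m w e)
    have := Set.ncard_le_ncard h1 (Set.toFinite _)
    rwa [Set.ncard_compl, Set.ncard_singleton, Nat.card_fun, Nat.card_eq_fintype_card (α := ι), hι,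
      Nat.card_eq_fintype_card (α := F)] at this
  have hT0 : (O' \ S0).ncard = 0 := by
    by_contra hne
    obtain ⟨k, hk⟩ := hT
    have hk0 : k ≠ 0 := fun e => hne (by rw [hk, e, mul_zero])
    rw [hsplit, Nat.dvd_add_right dvd_rfl, hk] at hdvd
    have hcop' : S0.ncard.Coprime (Nat.card (Multiplicative ↥(comp Q w f))) := by
      rw [hd, hq, ← pow_mul]
      exact hcop.pow_right _
    have h3 := Nat.le_of_dvd (Nat.pos_of_ne_zero hk0) (hcop'.dvd_of_dvd_mul_left hdvd)
    rw [hsplit, hk, Nat.card_congr Multiplicative.toAdd] at hupper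
    have hd2 : Fintype.card F ^ 2 ≤ Nat.card ↥(comp Q w f) := by
      rw [← Nat.card_congr Multiplicative.toAdd, hd]
      exact Nat.pow_le_pow_right Fintype.card_pos (two_le_finrank_comp hι w f)
    have hq2 : 2 ≤ Fintype.card F := Fintype.one_lt_card
    obtain ⟨r, hr⟩ : ∃ r, Fintype.card F = r + 1 := ⟨Fintype.card F - 1, by omega⟩
    set d := Nat.card ↥(comp Q w f)
    set N := S0.ncard
    rw [hr, Nat.add_sub_cancel] at hn0
    rw [hr] at hd2 hupper
    have h5 : (d + 1) * r * (d + 1) ≤ (r + 1) ^ 4 - 1 := by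
      refine le_trans ?_ hupper
      calc (d + 1) * r * (d + 1) ≤ N * (d + 1) := Nat.mul_le_mul_right _ hn0
        _ = N + d * N := by ring
        _ ≤ N + d * k := Nat.add_le_add_left (Nat.mul_le_mul_left _ h3) _
    have h6 : ((r + 1) ^ 2 + 1) * r * ((r + 1) ^ 2 + 1) ≤ (d + 1) * r * (d + 1) :=
      Nat.mul_le_mul (Nat.mul_le_mul_right _ (by omega)) (by omega)
    have h7 : (r + 1) ^ 4 - 1 + 1 = (r + 1) ^ 4 := Nat.sub_add_cancel (Nat.one_le_pow _ _ (by omega))
    have hr1 : 1 ≤ r := by omega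
    nlinarith [h5, h6, h7, hr1]
  have hOS : O' \ S0 = ∅ := by
    rw [← Set.ncard_eq_zero (Set.toFinite _)]
    exact hT0
  by_contra hne
  exact Set.eq_empty_iff_forall_notMem.1 hOS ((g : Matrix ι ι F) *ᵥ w)
    ⟨⟨g, hg, rfl⟩, fun h => hne h.1⟩

include h2 hι in
/-- Orthogonal similitudes are maximal in SL(4). -/
theorem isMaximalIn_similitude :
    Cfsg.Geo.IsMaximalIn (Cfsg.Geo.specialLinear ι F)
      (Cfsg.Geo.quadSimilarityGroup (⇑Q) ⊓ Cfsg.Geo.specialLinear ι F) := by
  refine ⟨lt_of_le_of_ne inf_le_right fun heq => ?_, fun M hM hMS => ?_⟩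
  · obtain ⟨e, hqe, he0⟩ := exists_singular hQ hι
    obtain ⟨f, hqf, hef⟩ := exists_mate hQ hqe he0
    obtain ⟨z, hz, hqz⟩ := exists_comp_value hQ hι hqe hqf hef (c := 1) one_ne_zero
    obtain ⟨hez, hfz⟩ := mem_comp.1 hz
    have hd : vec Q z ⬝ᵥ e = 0 := by rw [vec_dot, QuadraticMap.polar_comm, hez]
    obtain ⟨c, hc⟩ := (heq.ge (transvectionGL_mem_specialLinear _ _ hd)).1
    have h1 := hc (e + f)
    have h3 := hc (f + z)
    simp only [transvectionGL_mulVec, vec_dot, QuadraticMap.polar_add_right, QuadraticMap.polar_comm (⇑Q) z e, hez,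
      QuadraticMap.polar_comm (⇑Q) z f, hfz, zero_add, add_zero, zero_smul, apply_add, apply_smul, hqe, hqf, hef,
      QuadraticMap.polar_self, QuadraticMap.polar_add_left, polar_smul_right', QuadraticMap.polar_comm (⇑Q) f e,
      nsmul_eq_mul, Nat.cast_ofNat, mul_zero, mul_one, hqz] at h1 h3
    rw [← h1] at h3
    exact h2 (by linear_combination h3)
  refine (eq_or_lt_of_le hM).imp Eq.symm fun hlt => le_antisymm hMS ?_
  have hS : HasSiegel hQ M := fun hw ha => hM (eg_mem hQ h2 hw ha)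
  by_cases hclean : Clean Q M
  swap
  · exact specialLinear_le hQ h2 hι hS hclean
  exfalso
  obtain ⟨g, hg, hgn⟩ := SetLike.exists_of_lt hlt
  refine hgn ⟨?_, hMS hg⟩
  obtain ⟨c, hc⟩ := eq_smul_of_singular hQ h2 hι
    (Q' := Q.comp (Matrix.toLin' (g : Matrix ι ι F))) fun x hx => by
      rcases eq_or_ne x 0 with rfl | hx0
      · simp
      · simpa using singular_image hQ h2 hι hM hMS hclean hx hx0 hg
  simp only [QuadraticMap.comp_apply, Matrix.toLin'_apply] at hc
  have hc0 : c ≠ 0 := fun e => by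
    obtain ⟨w, hw, hw0⟩ := exists_singular hQ hι
    obtain ⟨f, hf, hwf⟩ := exists_mate hQ hw hw0
    obtain ⟨z, -, hqz⟩ := exists_comp_value hQ hι hw hf hwf (c := 1) one_ne_zero
    have h1 := hc (((g⁻¹ : GL ι F) : Matrix ι ι F) *ᵥ z)
    rw [Matrix.mulVec_mulVec, Units.mul_inv, Matrix.one_mulVec, e, zero_mul, hqz] at h1
    exact one_ne_zero h1
  exact ⟨Units.mk0 c hc0, hc⟩

end CfsgLib.Geo.SLFour.Quad
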