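/-
Dimension four: the functionals with a given isotropic centre in an overgroup of the unitary group.
-/
import Cfsg.Agent.Lib.Geo.UnitarySimilitude
import Cfsg.Agent.Lib.Geo.QuadSimilitude

set_option autoImplicit false
set_option maxHeartbeats 1000000

namespace CfsgLib.Geo.SLFour

open Matrix CfsgLib.Classical CfsgLib.Classical.Herm CfsgLib.Geo.Roots CfsgLib.Geo.UnitarySim

variable {ι : Type} [Fintype ι] [DecidableEq ι] {F : Type*} [Field F] {σ : F →+* F}
  {B : (ι → F) →ₛₗ[σ] (ι → F) →ₗ[F] F}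

/-- One root with isotropic centre spreads to the whole orthogonal hyperplane. -/
theorem roots_of_perp [Finite F] (h : IsHerm B) (hn : Fintype.card ι = 4) {f₀ : (ι → F) → (ι → F) → F}
    (hB : ∀ u y, B u y = f₀ y u) {M : Subgroup (GL ι F)}
    (hM : Cfsg.Geo.similarityGroup f₀ ⊓ Cfsg.Geo.specialLinear ι F ≤ M) {t : F} (ht0 : t ≠ 0)
    (rule1 : ∀ {x v w : ι → F}, Root M (vec B x) v → B w w = 0 → B v w = 0 →
      Root M (vec B ((-(B w x) * t) • w)) v)
    {v x : ι → F} (hv : B v v = 0) (hv0 : v ≠ 0) (hx : x ∉ Submodule.span F {v}) (hroot : Root M (vec B x) v)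
    {y : ι → F} (hy : B v y = 0) : Root M (vec B y) v := by
  classical
  have hrk : Module.finrank F (ι → F) = 4 := by rw [Module.finrank_pi, hn]
  have hvx : B v x = 0 := h.eq_zero_symm (by rw [← vec_dot]; exact hroot.dot)
  let A : AddSubgroup (ι → F) :=
    { carrier := {z | Root M (vec B z) v}
      add_mem' := fun {a b} ha hb => by
        show Root M (vec B (a + b)) v
        rw [UnitarySim.vec_add]; exact Root.add ha hb
      zero_mem' := by
        show Root M (vec B (0 : ι → F)) v
        rw [UnitarySim.vec_zero]; exact Root.zero v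
      neg_mem' := fun {a} ha => by
        show Root M (vec B (-a)) v
        rw [show -a = (0 : ι → F) - a by simp, UnitarySim.vec_sub, UnitarySim.vec_zero, zero_sub]; exact Root.neg ha }
  have hA : ∀ {z w : ι → F}, z ∈ A → B w w = 0 → B v w = 0 → (-(B w z) * t) • w ∈ A :=
    fun hz hw hvw => rule1 hz hw hvw
  -- two hyperbolic pairs
  obtain ⟨u, hvu, huu⟩ := h.exists_isotropic_partner hv0 hv
  have huv : B u v = 1 := by rw [← h.symm, hvu, map_one]
  let R : Submodule F (ι → F) := LinearMap.ker (B v) ⊓ LinearMap.ker (B u)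
  have hRmem : ∀ {z}, z ∈ R ↔ B v z = 0 ∧ B u z = 0 := fun {z} => Iff.rfl
  have hRproj : ∀ z, z - B u z • v - B v z • u ∈ R := fun z => hRmem.2
    ⟨by simp [hv, hvu], by simp [huu, huv]⟩
  have hRnd : ∀ z ∈ R, (∀ w ∈ R, B z w = 0) → z = 0 := fun z hz hzw => h.nondeg z fun w => by
    have e := hzw _ (hRproj w)
    simp only [map_sub, smul_right, h.eq_zero_symm (hRmem.1 hz).1, h.eq_zero_symm (hRmem.1 hz).2, mul_zero,
      sub_zero] at e
    exact e
  have hRdim : 2 ≤ Module.finrank F R := by
    let L : (ι → F) →ₗ[F] F × F := (B v).prod (B u)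
    have hker : LinearMap.ker L = R := LinearMap.ker_prod _ _
    have h1 := LinearMap.finrank_range_add_finrank_ker L
    have h2 := Submodule.finrank_le (LinearMap.range L)
    rw [Module.finrank_prod, Module.finrank_self] at h2
    rw [hker, hrk] at h1
    omega
  have hr := h.restrict_herm hRnd
  obtain ⟨e, he0, hee⟩ := hr.exists_isotropic hRdim
  obtain ⟨f, hef, hff⟩ := hr.exists_isotropic_partner he0 hee
  have hee' : B (e : ι → F) e = 0 := hee
  have hff' : B (f : ι → F) f = 0 := hff
  have hef' : B (e : ι → F) f = 1 := hef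
  have hfe : B (f : ι → F) e = 1 := by rw [← h.symm, hef', map_one]
  obtain ⟨hve, hue⟩ := hRmem.1 e.2
  obtain ⟨hvf, huf⟩ := hRmem.1 f.2
  have hev := h.eq_zero_symm hve
  have hfv := h.eq_zero_symm hvf
  have heu := h.eq_zero_symm hue
  have hfu := h.eq_zero_symm huf
  have hli : LinearIndependent F ![v, u, (e : ι → F), (f : ι → F)] := by
    refine Fintype.linearIndependent_iff.2 fun c hc i => ?_
    have h1 := congrArg (B u) hc
    have h2 := congrArg (B v) hc
    have h3 := congrArg (B (f : ι → F)) hc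
    have h4 := congrArg (B (e : ι → F)) hc
    simp [Fin.sum_univ_four, huv, huu, hue, huf] at h1
    simp [Fin.sum_univ_four, hv, hvu, hve, hvf] at h2
    simp [Fin.sum_univ_four, hfv, hfu, hfe, hff'] at h3
    simp [Fin.sum_univ_four, hev, heu, hef', hee'] at h4
    fin_cases i
    exacts [h1, h2, h3, h4]
  have hdec : ∀ z, z = B u z • v + B v z • u + B (f : ι → F) z • (e : ι → F) + B (e : ι → F) z • (f : ι → F) := by
    intro z
    rw [← sub_eq_zero]
    refine h.nondeg _ fun w => h.eq_zero_symm ?_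
    have hsp := hli.span_eq_top_of_card_eq_finrank (by rw [Fintype.card_fin, hrk])
    have hw : w ∈ Submodule.span F (Set.range ![v, u, (e : ι → F), (f : ι → F)]) := hsp ▸ Submodule.mem_top
    induction hw using Submodule.span_induction with
    | mem w hw =>
      obtain ⟨i, rfl⟩ := hw
      fin_cases i <;> simp [hv, hvu, hve, hvf, huv, huu, hue, huf, hfv, hfu, hfe, hff', hev, heu, hef', hee']
    | zero => simp
    | add a b _ _ ha hb => rw [add_left, ha, hb, add_zero]
    | smul c a _ ha => rw [smul_left, ha, mul_zero]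
  -- multiples of the centre, and one multiple on a line
  have hxe : B (e : ι → F) x ≠ 0 ∨ B (f : ι → F) x ≠ 0 := by
    by_contra! hc
    refine hx (Submodule.mem_span_singleton.2 ⟨B u x, ?_⟩)
    conv_rhs => rw [hdec x]
    simp [hvx, hc.1, hc.2]
  obtain ⟨hvA, ce, hce, hceA⟩ : (∀ l : F, l • v ∈ A) ∧ ∃ ce : F, ce ≠ 0 ∧ ce • (e : ι → F) ∈ A := by
    have key : ∀ w : ι → F, B w w = 0 → B v w = 0 → B w x ≠ 0 →
        (∀ l : F, l • v ∈ A) ∧ (-(B w x) * t) • w ∈ A := by
      intro w hw hvw hwx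
      refine ⟨fun l => ?_, hA hroot hw hvw⟩
      set c := -(B w x) * t with hc
      have hc0 : c ≠ 0 := mul_ne_zero (neg_ne_zero.2 hwx) ht0
      have h1 := hA (z := x) hroot (w := w + (c⁻¹ * l) • v)
        (by simp [hw, hv, hvw, h.eq_zero_symm hvw]) (by simp [hv, hvw])
      rw [show B (w + (c⁻¹ * l) • v) x = B w x by simp [hvx], ← hc] at h1
      have h2 := A.sub_mem h1 (hA hroot hw hvw)
      rwa [← hc, smul_add, add_sub_cancel_left, smul_smul, mul_inv_cancel_left₀ hc0] at h2
    rcases hxe with h1 | h1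
    · obtain ⟨hl, hk⟩ := key _ hee' hve h1
      exact ⟨hl, _, mul_ne_zero (neg_ne_zero.2 h1) ht0, hk⟩
    · obtain ⟨hl, hk⟩ := key _ hff' hvf h1
      refine ⟨hl, _, ?_, hA hk hee' hve⟩
      rw [smul_right, hef', mul_one]
      exact mul_ne_zero (neg_ne_zero.2 (mul_ne_zero (neg_ne_zero.2 h1) ht0)) ht0
  -- the torus
  have htor : ∀ a : F, a ≠ 0 → ∀ {z}, z ∈ A → B v z = 0 → B u z = 0 → B (e : ι → F) z = 0 →
      (a * a) • z ∈ A := by
    intro a ha z hzA hvz huz hez
    have hσa : σ a ≠ 0 := fun h0 => ha (IsInvol.apply_eq_zero_iff.1 h0)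
    let D : F → (ι → F) →ₗ[F] (ι → F) := fun b =>
      ((σ b) • B u).smulRight v + (b⁻¹ • B v).smulRight u + (b • B (f : ι → F)).smulRight (e : ι → F) +
        ((σ b)⁻¹ • B (e : ι → F)).smulRight (f : ι → F)
    have hD : ∀ b z, D b z = (σ b * B u z) • v + (b⁻¹ * B v z) • u + (b * B (f : ι → F) z) • (e : ι → F) +
        ((σ b)⁻¹ * B (e : ι → F) z) • (f : ι → F) := fun b z => rfl
    let g0 : Matrix ι ι F := LinearMap.toMatrix' (D a)
    have hg0 : ∀ z, g0 *ᵥ z = D a z := fun z => LinearMap.toMatrix'_mulVec (D a) z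
    have hdet : g0.det = 1 := by
      let bas := basisOfLinearIndependentOfCardEqFinrank hli (by rw [Fintype.card_fin, hrk])
      rw [LinearMap.det_toMatrix', ← LinearMap.det_toMatrix bas]
      have e : LinearMap.toMatrix bas bas (D a) = Matrix.diagonal ![σ a, a⁻¹, a, (σ a)⁻¹] := by
        ext i j
        rw [LinearMap.toMatrix_apply]
        have hb : ∀ k, bas k = ![v, u, (e : ι → F), (f : ι → F)] k := fun k => by
          simp [bas]
        have he : D a (bas j) = ![σ a, a⁻¹, a, (σ a)⁻¹] j • bas j := by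
          rw [hD, hb]
          fin_cases j <;> simp [hv, hvu, hve, hvf, huv, huu, hue, huf, hfv, hfu, hfe, hff', hev, heu, hef', hee']
        rw [he, map_smul, Finsupp.smul_apply, Module.Basis.repr_self, Finsupp.single_apply, Matrix.diagonal_apply]
        by_cases hij : i = j
        · subst hij; simp
        · simp [hij, Ne.symm hij]
      rw [e, Matrix.det_diagonal, Fin.prod_univ_four]
      simp
      field_simp
    let g : GL ι F := Matrix.GeneralLinearGroup.mkOfDetNeZero g0 (by rw [hdet]; exact one_ne_zero)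
    have hgv : ∀ z, (g : Matrix ι ι F) *ᵥ z = D a z := hg0
    have hiso : ∀ p q, B ((g : Matrix ι ι F) *ᵥ p) ((g : Matrix ι ι F) *ᵥ q) = B p q := by
      intro p q
      rw [hgv, hgv]
      conv_rhs => rw [hdec p, hdec q]
      simp [hD, hv, hvu, hve, hvf, huv, huu, hue, huf, hfv, hfu, hfe, hff', hev, heu, hef', hee', h.invol.invol]
      field_simp
    have hgM : g ∈ M := hM ⟨⟨1, fun p q => by rw [← hB, ← hB, hiso, Units.val_one, one_mul]⟩,
      MonoidHom.mem_ker.2 (Units.ext hdet)⟩
    have h1 := Root.conj hzA hgM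
    have e1 : vec B z ᵥ* ((g⁻¹ : GL ι F) : Matrix ι ι F) = vec B ((g : Matrix ι ι F) *ᵥ z) := by
      refine eq_of_dot fun p => ?_
      rw [← Matrix.dotProduct_mulVec, vec_dot, vec_dot]
      conv_rhs => rw [show p = (g : Matrix ι ι F) *ᵥ (((g⁻¹ : GL ι F) : Matrix ι ι F) *ᵥ p) by
        rw [Matrix.mulVec_mulVec, Units.mul_inv, Matrix.one_mulVec], hiso]
    have e2 : (g : Matrix ι ι F) *ᵥ v = σ a • v := by
      rw [hgv, hD]; simp [huv, hv, hfv, hev]
    have e3 : (g : Matrix ι ι F) *ᵥ z = a • z := by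
      rw [hgv, hD]
      conv_rhs => rw [hdec z]
      simp [hvz, huz, hez, smul_smul]
    rw [e1, e2, e3, root_smul_iff hσa] at h1
    show Root M (vec B ((a * a) • z)) v
    rw [UnitarySim.vec_smul, map_mul]
    rwa [UnitarySim.vec_smul, smul_smul] at h1
  have heA : ∀ l : F, l • (e : ι → F) ∈ A := by
    intro l
    have hsq : ∀ s : F, (ce * s ^ 2) • (e : ι → F) ∈ A := by
      intro s
      rcases eq_or_ne s 0 with rfl | hs
      · simp [A.zero_mem]
      · have := htor s hs hceA (by simp [hve]) (by simp [hue]) (by simp [hee'])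
        rwa [smul_smul, ← sq, mul_comm] at this
    haveI : Fintype F := Fintype.ofFinite F
    by_cases h2 : (2 : F) = 0
    · have hr2 : ringChar F = 2 := by
        haveI : CharP F 2 := CharTwo.of_one_ne_zero_of_two_eq_zero one_ne_zero h2
        exact ringChar.eq F 2
      obtain ⟨s, hs⟩ := FiniteField.isSquare_of_char_two hr2 (l / ce)
      have := hsq s
      rwa [sq, ← hs, mul_div_cancel₀ _ hce] at this
    · refine QuadSim.all_of_squares h2 (P := fun k => k • (e : ι → F) ∈ A) (fun a b ha hb => ?_) (fun a ha => ?_)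
        hce hsq l
      · show (a + b) • _ ∈ A
        rw [add_smul]; exact A.add_mem ha hb
      · show (-a) • _ ∈ A
        rw [neg_smul]; exact A.neg_mem ha
  have hfA : ∀ l : F, l • (f : ι → F) ∈ A := by
    intro l
    have := hA (heA (-(l / t))) hff' hvf
    rwa [smul_right, hfe, mul_one, neg_neg, div_mul_cancel₀ _ ht0] at this
  show y ∈ A
  rw [hdec y, hy, zero_smul, add_zero]
  exact A.add_mem (A.add_mem (hvA _) (heA _)) (hfA _)

/-- Unitary similitudes are maximal in SL(4). -/
theorem isMaximalIn_unitary {F : Type*} [Field F] [Fintype F] (σ : F ≃+* F) (f : (Fin 4 → F) → (Fin 4 → F) → F)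
    (hf : Cfsg.Geo.IsUnitaryForm σ f) :
    Cfsg.Geo.IsMaximalIn (Cfsg.Geo.specialLinear (Fin 4) F)
      (Cfsg.Geo.similarityGroup f ⊓ Cfsg.Geo.specialLinear (Fin 4) F) := by
  have hr : ∀ v a b, f v (a + b) = f v a + f v b := fun v a b => by
    rw [hf.herm, hf.add_left, map_add, ← hf.herm, ← hf.herm]
  have hs : ∀ (c : F) (v a : Fin 4 → F), f v (c • a) = σ c * f v a := fun c v a => by
    rw [hf.herm, hf.smul_left, map_mul, ← hf.herm]
  let B : (Fin 4 → F) →ₛₗ[(σ : F →+* F)] (Fin 4 → F) →ₗ[F] F :=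
    LinearMap.mk₂'ₛₗ (σ : F →+* F) (RingHom.id F) (fun u y => f y u)
      (fun u u' y => hr y u u') (fun c u y => by simpa using hs c y u)
      (fun u y y' => hf.add_left y y' u) (fun c u y => by simpa using hf.smul_left c y u)
  have h : CfsgLib.Classical.Herm.IsHerm B :=
    { invol := ⟨fun e => hf.ne_refl (RingEquiv.ext fun x => RingHom.congr_fun e x), hf.involutive⟩
      symm := fun x y => (hf.herm x y).symm
      nondeg := fun x hx => by
        by_contra h0
        obtain ⟨y, hy⟩ := (hf.nondegenerate x h0).1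
        exact hy (hx y) }
  exact UnitarySim.isMaximalIn_unitarySimilitude_of h (by simp) (fun u y => rfl)
    fun M hM t ht0 rule1 v x hv hv0 hx hroot y hy =>
      roots_of_perp h (by simp) (fun u y => rfl) hM ht0 rule1 hv hv0 hx hroot hy

end CfsgLib.Geo.SLFour
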